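import Groth.Agent.Lib.PCoh.Resolution
import Mathlib.CategoryTheory.Abelian.Refinements

/-!
Objects all of whose maps from objects of `P` have kernels of finite type.
-/

set_option autoImplicit false

universe v u

open CategoryTheory CategoryTheory.Limits

namespace Groth.Agent.PCoh

variable {C : Type u} [Category.{v} C] [Abelian C] {P : ObjectProperty C}

/-- Kernels of maps from objects of `P` are of finite type. -/
def PreCoh (P : ObjectProperty C) (X : C) : Prop :=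
  ∀ (E : C) (u : E ⟶ X), P E → _root_.PCoh.IsOfFiniteType P (kernel u)

theorem IsOfFiniteType.kernel_of_epi {E E' X : C} (e : E' ⟶ E) [Epi e] (u : E ⟶ X)
    (h : _root_.PCoh.IsOfFiniteType P (kernel (e ≫ u))) : _root_.PCoh.IsOfFiniteType P (kernel u) := by
  let f : kernel (e ≫ u) ⟶ kernel u := kernel.lift u (kernel.ι _ ≫ e) (by simp)
  have : Epi f := by
    rw [epi_iff_surjective_up_to_refinements]
    intro A y
    obtain ⟨A', π, hπ, x, hx⟩ := surjective_up_to_refinements_of_epi e (y ≫ kernel.ι u)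
    exact ⟨A', π, hπ, kernel.lift _ x (by rw [← reassoc_of% hx]; simp), by
      apply (cancel_mono (kernel.ι u)).1
      simp [f, hx]⟩
  exact IsOfFiniteType.of_epi f h

variable [P.IsClosedUnderIsomorphisms]

theorem PreCoh.of_mono {X Y : C} (f : X ⟶ Y) [Mono f] (h : PreCoh P Y) : PreCoh P X := fun E u hE =>
  IsOfFiniteType.of_epi (kernelCompMono u f).hom (h E (u ≫ f) hE)

variable (hsum : ∀ X Y : C, P X → P Y → P (X ⨯ Y)) (hql : _root_.PCoh.IsQuasiLiftable P)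

omit [P.IsClosedUnderIsomorphisms] in
include hql in
/-- A map into the target of an epimorphism lifts after covering the source by an object of `P`. -/
theorem exists_lift {E X Y : C} (g : X ⟶ Y) [Epi g] (u : E ⟶ Y) (hE : P E) :
    ∃ (E' : C) (e : E' ⟶ E) (l : E' ⟶ X), P E' ∧ Epi e ∧ l ≫ g = e ≫ u := by
  obtain ⟨E', v, hE', hv⟩ := hql (pullback u g) E (pullback.fst _ _) inferInstance hE
  exact ⟨E', v ≫ pullback.fst _ _, v ≫ pullback.snd _ _, hE', hv, by
    rw [Category.assoc, Category.assoc, pullback.condition]⟩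

omit [P.IsClosedUnderIsomorphisms] in
include hql in
theorem isOfFiniteType_of_exact {S : ShortComplex C} (hS : S.Exact) [Mono S.f]
    (h₂ : _root_.PCoh.IsOfFiniteType P S.X₂) (h₃ : PreCoh P S.X₃) :
    _root_.PCoh.IsOfFiniteType P S.X₁ := by
  obtain ⟨E, π, hE, hπ⟩ := h₂
  have hk := h₃ E (π ≫ S.g) hE
  have h : _root_.PCoh.IsOfFiniteType P (kernel S.g) := IsOfFiniteType.kernel_of_epi π S.g hk
  exact IsOfFiniteType.of_epi
    ((kernelIsKernel S.g).conePointUniqueUpToIso hS.fIsKernel).hom h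

include hsum hql in
theorem isOfFiniteType_extension {S : ShortComplex C} (hS : S.ShortExact)
    (h₁ : _root_.PCoh.IsOfFiniteType P S.X₁) (h₃ : _root_.PCoh.IsOfFiniteType P S.X₃) :
    _root_.PCoh.IsOfFiniteType P S.X₂ := by
  have := hS.epi_g
  obtain ⟨E₁, π₁, hE₁, hπ₁⟩ := h₁
  obtain ⟨E₃, π₃, hE₃, hπ₃⟩ := h₃
  obtain ⟨E', e, l, hE', he, hl⟩ := exists_lift hql S.g π₃ hE₃
  refine ⟨E₁ ⊞ E', biprod.desc (π₁ ≫ S.f) l, prop_biprod hsum hE₁ hE', ?_⟩
  rw [epi_iff_surjective_up_to_refinements]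
  intro A y
  obtain ⟨A₁, p₁, hp₁, x₃, hx₃⟩ := surjective_up_to_refinements_of_epi (e ≫ π₃) (y ≫ S.g)
  obtain ⟨A₂, p₂, hp₂, x₁, hx₁⟩ := hS.exact.exact_up_to_refinements (p₁ ≫ y - x₃ ≫ l) (by
    simp [hl, hx₃])
  obtain ⟨A₃, p₃, hp₃, w, hw⟩ := surjective_up_to_refinements_of_epi π₁ x₁
  refine ⟨A₃, p₃ ≫ p₂ ≫ p₁, inferInstance, biprod.lift w (p₃ ≫ p₂ ≫ x₃), ?_⟩
  rw [biprod.lift_desc, ← Category.assoc w, ← hw]
  simp only [Category.assoc, ← hx₁, Preadditive.comp_sub]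
  simp

include hsum hql in
theorem preCoh_quotient {S : ShortComplex C} (hS : S.Exact) [Epi S.g]
    (h₁ : _root_.PCoh.IsOfFiniteType P S.X₁) (h₂ : PreCoh P S.X₂) : PreCoh P S.X₃ := by
  intro E u hE
  obtain ⟨E₁, π₁, hE₁, hπ₁⟩ := h₁
  obtain ⟨E', e, l, hE', he, hl⟩ := exists_lift hql S.g u hE
  let v : E' ⊞ E₁ ⟶ S.X₂ := biprod.desc l (π₁ ≫ S.f)
  refine IsOfFiniteType.kernel_of_epi e u ?_
  have hv : kernel.ι v ≫ biprod.fst ≫ e ≫ u = 0 := by
    have : biprod.fst ≫ e ≫ u = v ≫ S.g := by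
      apply biprod.hom_ext' <;> simp [v, hl]
    rw [this, kernel.condition_assoc, zero_comp]
  let f : kernel v ⟶ kernel (e ≫ u) := kernel.lift _ (kernel.ι v ≫ biprod.fst) (by simpa using hv)
  have : Epi f := by
    rw [epi_iff_surjective_up_to_refinements]
    intro A y
    obtain ⟨A₁, p₁, hp₁, x₁, hx₁⟩ := hS.exact_up_to_refinements (y ≫ kernel.ι (e ≫ u) ≫ l) (by simp [hl])
    obtain ⟨A₂, p₂, hp₂, w, hw⟩ := surjective_up_to_refinements_of_epi π₁ x₁
    refine ⟨A₂, p₂ ≫ p₁, inferInstance, kernel.lift v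
      (biprod.lift (p₂ ≫ p₁ ≫ y ≫ kernel.ι _) (-w)) ?_, ?_⟩
    · simp [v, hx₁, reassoc_of% hw]
    · apply (cancel_mono (kernel.ι (e ≫ u))).1
      simp [f]
  exact IsOfFiniteType.of_epi f (h₂ _ v (prop_biprod hsum hE' hE₁))

include hsum hql in
theorem preCoh_extension {S : ShortComplex C} (hS : S.ShortExact)
    (h₁ : PreCoh P S.X₁) (h₃ : PreCoh P S.X₃) : PreCoh P S.X₂ := by
  intro E u hE
  obtain ⟨E', π, hE', hπ⟩ := h₃ E (u ≫ S.g) hE
  have := hS.mono_f
  let w : E' ⟶ S.X₁ := hS.exact.lift (π ≫ kernel.ι _ ≫ u) (by simp)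
  have hw : w ≫ S.f = π ≫ kernel.ι _ ≫ u := hS.exact.lift_f _ _
  let f : kernel w ⟶ kernel u := kernel.lift u (kernel.ι w ≫ π ≫ kernel.ι _) (by
    simp [← hw])
  have : Epi f := by
    rw [epi_iff_surjective_up_to_refinements]
    intro A y
    obtain ⟨A₁, p, hp, x, hx⟩ := surjective_up_to_refinements_of_epi π
      (kernel.lift (u ≫ S.g) (y ≫ kernel.ι u) (by simp))
    refine ⟨A₁, p, hp, kernel.lift w x ((cancel_mono S.f).1 ?_), ?_⟩
    · rw [Category.assoc, hw, ← reassoc_of% hx]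
      simp
    · apply (cancel_mono (kernel.ι u)).1
      simp [f, ← reassoc_of% hx]
  exact IsOfFiniteType.of_epi f (h₁ E' w hE')

end Groth.Agent.PCoh
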