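import Groth.Agent.Lib.PCoh.TwoOfThree
import Groth.Agent.Lib.PCoh.Coherent
import Mathlib.Algebra.Homology.DerivedCategory.SingleTriangle
import Mathlib.Algebra.Homology.HomologicalComplexLimits
import Mathlib.Algebra.Homology.Embedding.ExtendHomology

/-!
Criteria for pseudo-coherence in terms of the terms or of the cohomology objects.
-/

set_option autoImplicit false

universe w v u

open CategoryTheory CategoryTheory.Limits CategoryTheory.Pretriangulated
open scoped ZeroObject

namespace Groth.Agent.PCoh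

open CochainComplex HomologicalComplex DerivedCategory DerivedCategory.TStructure

variable {C : Type u} [Category.{v} C] [Abelian C] [HasDerivedCategory.{w} C]

local notation "HH" => DerivedCategory.homologyFunctor C

theorem isZero_homology_single (M : C) (n i : ℤ) (hi : i ≠ n) :
    IsZero ((HH i).obj ((DerivedCategory.singleFunctor C n).obj M)) :=
  (isZero_homology_Q_iff ((HomologicalComplex.single C (ComplexShape.up ℤ) n).obj M) i).2
    (HomologicalComplex.exactAt_single_obj (ComplexShape.up ℤ) n M i hi)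

/-- The cohomology of a single object. -/
noncomputable def homologySingleIso (M : C) (n : ℤ) :
    (HH n).obj ((DerivedCategory.singleFunctor C n).obj M) ≅ M :=
  (homologyFunctorFactors C n).app ((HomologicalComplex.single C (ComplexShape.up ℤ) n).obj M) ≪≫
    HomologicalComplex.singleObjHomologySelfIso (ComplexShape.up ℤ) n M

/-- `M[-i]` as a shift of `M`. -/
noncomputable def singleShiftIso (M : C) (i : ℤ) :
    ((DerivedCategory.singleFunctor C 0).obj M)⟦-i⟧ ≅ (DerivedCategory.singleFunctor C i).obj M :=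
  ((DerivedCategory.singleFunctors C).shiftIso (-i) i 0 (by omega)).app M

/-- Splitting off the top term. -/
theorem exists_top (F : CochainComplex C ℤ) (b : ℤ) (hb : ∀ i, b < i → IsZero (F.X i)) :
    ∃ T : Triangle (DerivedCategory C), T ∈ distinguishedTriangles ∧
      T.obj₁ = (DerivedCategory.singleFunctor C b).obj (F.X b) ∧ T.obj₂ = Q.obj F ∧
      ∃ G : CochainComplex C ℤ, T.obj₃ = Q.obj G ∧ (∀ i, b ≤ i → IsZero (G.X i)) ∧
        ∀ i, i < b → Nonempty (G.X i ≅ F.X i) := by
  let S₁ := (HomologicalComplex.single C (ComplexShape.up ℤ) b).obj (F.X b)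
  let ι : S₁ ⟶ F := HomologicalComplex.mkHomFromSingle (𝟙 (F.X b)) fun k (hk : b + 1 = k) =>
    (hb k (by omega)).eq_of_tgt _ _
  have hι : IsIso (ι.f b) := by
    have : ι.f b = (HomologicalComplex.singleObjXSelf (ComplexShape.up ℤ) b (F.X b)).hom ≫ 𝟙 (F.X b) :=
      HomologicalComplex.mkHomFromSingle_f _ _
    rw [this]
    infer_instance
  have hm : ∀ i, Mono (ι.f i) := fun i => by
    by_cases h : i = b
    · subst h
      infer_instance
    · exact ⟨fun _ _ _ => (HomologicalComplex.isZero_single_obj_X (ComplexShape.up ℤ) b _ i h).eq_of_tgt _ _⟩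
  have := HomologicalComplex.mono_of_mono_f ι hm
  let S := ShortComplex.mk ι (cokernel.π ι) (cokernel.condition ι)
  have hS : S.ShortExact :=
    { exact := ShortComplex.exact_of_g_is_cokernel S (cokernelIsCokernel ι)
      mono_f := this
      epi_g := inferInstanceAs (Epi (cokernel.π ι)) }
  let e := fun i => PreservesCokernel.iso (HomologicalComplex.eval C (ComplexShape.up ℤ) i) ι
  refine ⟨triangleOfSES hS, triangleOfSES_distinguished hS, rfl, rfl, cokernel ι, rfl, fun i hi => ?_, fun i hi => ?_⟩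
  · rcases hi.lt_or_eq with h | rfl
    · have : Epi ((cokernel.π ι).f i) := inferInstance
      exact IsZero.of_epi ((cokernel.π ι).f i) (hb i h)
    · exact (isZero_cokernel_of_epi (ι.f b)).of_iso (e b)
  · refine ⟨e i ≪≫ ?_⟩
    exact (cokernelIsoOfEq ((HomologicalComplex.isZero_single_obj_X (ComplexShape.up ℤ) b _ i (by omega)).eq_of_src
      (ι.f i) 0)) ≪≫ cokernelZeroIsoTarget

/-- Dévissage along the terms of a bounded above complex. -/
theorem termwise_induction (S : DerivedCategory C → Prop) (F : CochainComplex C ℤ) (n b : ℤ)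
    (hb : ∀ i, b < i → IsZero (F.X i))
    (hext : ∀ T : Triangle (DerivedCategory C), T ∈ distinguishedTriangles → S T.obj₁ → S T.obj₃ → S T.obj₂)
    (hbase : ∀ K : CochainComplex C ℤ, (∀ i, n ≤ i → IsZero (K.X i)) →
      (∀ i, i < n → Nonempty (K.X i ≅ F.X i)) → S (Q.obj K))
    (hsingle : ∀ (i : ℤ) (M : C), n ≤ i → i ≤ b → Nonempty (M ≅ F.X i) →
      S ((DerivedCategory.singleFunctor C i).obj M)) : S (Q.obj F) := by
  suffices H : ∀ (j : ℕ) (K : CochainComplex C ℤ) (c : ℤ), c = n + j → c ≤ max (b + 1) n →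
      (∀ i, c ≤ i → IsZero (K.X i)) → (∀ i, i < c → Nonempty (K.X i ≅ F.X i)) → S (Q.obj K) by
    exact H (max (b + 1) n - n).toNat F (max (b + 1) n) (by omega) le_rfl
      (fun i hi => hb i (by omega)) fun i _ => ⟨Iso.refl _⟩
  intro j
  induction j with
  | zero =>
    intro K c hc _ hz he
    exact hbase K (fun i hi => hz i (by omega)) fun i hi => he i (by omega)
  | succ j ih =>
    intro K c hc hcb hz he
    obtain ⟨T, hT, e₁, e₂, G, e₃, hG, hG'⟩ := exists_top K (c - 1) fun i hi => hz i (by omega)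
    have h₁ : S T.obj₁ := by
      rw [e₁]
      exact hsingle (c - 1) _ (by omega) (by omega) (he (c - 1) (by omega))
    have h₃ : S T.obj₃ := by
      rw [e₃]
      exact ih G (c - 1) (by omega) (by omega) hG fun i hi =>
        ⟨(hG' i hi).some ≪≫ (he i (by omega)).some⟩
    rw [← e₂]
    exact hext T hT h₁ h₃

variable {P : ObjectProperty C} [P.IsClosedUnderIsomorphisms] [P.ContainsZero]

theorem pcn_singleFunctor {n : ℤ} {M : C} (i : ℤ)
    (h : PCn P (n - i) ((DerivedCategory.singleFunctor C 0).obj M)) :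
    PCn P n ((DerivedCategory.singleFunctor C i).obj M) :=
  (h.shift (-i) n (by omega)).of_iso (singleShiftIso M i)

theorem pcn_single_of_prop {M : C} (h : P M) (n : ℤ) :
    PCn P n ((DerivedCategory.singleFunctor C 0).obj M) :=
  pcn_Q (E := (HomologicalComplex.single C (ComplexShape.up ℤ) 0).obj M)
    ⟨⟨0, fun i hi => HomologicalComplex.isZero_single_obj_X (ComplexShape.up ℤ) 0 M i (by omega)⟩,
      fun i _ => by
        by_cases hi : i = 0
        · subst hi
          exact P.prop_of_iso (HomologicalComplex.singleObjXSelf (ComplexShape.up ℤ) 0 M).symm h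
        · exact prop_of_isZero (HomologicalComplex.isZero_single_obj_X (ComplexShape.up ℤ) 0 M i hi)⟩

variable (hsum : ∀ X Y : C, P X → P Y → P (X ⨯ Y))
  (hqs : _root_.PCoh.IsQuasiStableUnderKernels P) (hql : _root_.PCoh.IsQuasiLiftable P)

include hsum hqs hql

/-- Termwise criterion. -/
theorem pcn_of_termwise {n : ℤ} {F : CochainComplex C ℤ} (b : ℤ) (hb : ∀ i, b < i → IsZero (F.X i))
    (hfp : ∀ i, n ≤ i → PCn P (n - i) ((DerivedCategory.singleFunctor C 0).obj (F.X i))) :
    PCn P n (Q.obj F) :=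
  termwise_induction (PCn P n) F n b hb (fun _ hT => pcn_obj₂ hsum hqs hql _ hT)
    (fun K hK _ => pcn_of_isZero_homology fun i hi =>
      (isZero_homology_Q_iff K i).2 (ExactAt.of_isZero (hK i hi)))
    fun i M hi _ ⟨e⟩ => pcn_singleFunctor i
      ((hfp i hi).of_iso ((DerivedCategory.singleFunctor C 0).mapIso e.symm))

/-- Cohomological criterion. -/
theorem pcn_of_homology {n : ℤ} (F : DerivedCategory C) (b : ℤ)
    (hb : ∀ i, b < i → IsZero ((HH i).obj F))
    (hfp : ∀ i, n ≤ i → PCn P (n - i) ((DerivedCategory.singleFunctor C 0).obj ((HH i).obj F))) :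
    PCn P n F := by
  suffices H : ∀ (j : ℕ) (F : DerivedCategory C), (∀ i, n + j ≤ i → IsZero ((HH i).obj F)) →
      (∀ i, n ≤ i → i < n + j → PCn P (n - i) ((DerivedCategory.singleFunctor C 0).obj ((HH i).obj F))) →
      PCn P n F by
    exact H (max (b + 1) n - n).toNat F (fun i hi => hb i (by omega)) fun i hi _ => hfp i hi
  intro j
  induction j with
  | zero => intro F hF _; exact pcn_of_isZero_homology fun i hi => hF i (by omega)
  | succ j ih =>
    intro F hF hfp
    let k := n + j
    have hT := t.triangleLTGE_distinguished k F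
    have hGE : DerivedCategory.IsGE ((t.truncGE k).obj F) k :=
      (inferInstance : t.IsGE ((t.truncGE k).obj F) k)
    have hLT : DerivedCategory.IsLE ((t.truncLT k).obj F) (k - 1) :=
      (inferInstance : t.IsLE ((t.truncLT k).obj F) (k - 1))
    have hLE : DerivedCategory.IsLE ((t.truncGE k).obj F) k := by
      rw [DerivedCategory.isLE_iff]
      intro i hi
      have := DerTrunc.isIso_homology_truncGEπ F k i (by omega)
      exact (hF i (by omega)).of_iso (asIso ((HH i).map ((t.truncGEπ k).app F))).symm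
    obtain ⟨Y, ⟨e⟩⟩ := exists_iso_singleFunctor_obj_of_isGE_of_isLE ((t.truncGE k).obj F) k
    have := DerTrunc.isIso_homology_truncGEπ F k k le_rfl
    let eY : Y ≅ (HH k).obj F := (homologySingleIso Y k).symm ≪≫ (HH k).mapIso e.symm ≪≫
      (asIso ((HH k).map ((t.truncGEπ k).app F))).symm
    have h₃ : PCn P n ((t.truncGE k).obj F) :=
      (pcn_singleFunctor k ((hfp k (by omega) (by omega)).of_iso
        ((DerivedCategory.singleFunctor C 0).mapIso eY.symm))).of_iso e.symm
    have h₁ : PCn P n ((t.truncLT k).obj F) := by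
      refine ih _ (fun i hi => DerivedCategory.isZero_of_isLE _ (k - 1) i (by omega)) fun i hi hi' => ?_
      have := DerTrunc.isIso_homology_truncLTι F k i hi'
      exact (hfp i hi (by omega)).of_iso
        ((DerivedCategory.singleFunctor C 0).mapIso (asIso ((HH i).map ((t.truncLTι k).app F))).symm)
    exact pcn_obj₂ hsum hqs hql _ hT h₁ h₃

omit hsum hqs in
/-- A finite exact sequence gives finite type in degree zero. -/
theorem isOfFiniteType_zero_of_exact {P₁ : ObjectProperty C} [P₁.ContainsZero]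
    [P₁.IsClosedUnderIsomorphisms]
    (H : ∀ (G : CochainComplex C ℤ), _root_.PCoh.IsStrictPC P₁ 0 G → (∀ i, 0 < i → G.ExactAt i) →
      _root_.PCoh.IsOfFiniteType P (G.homology 0))
    (K : CochainComplex C ℕ) (hK : ∀ i, K.ExactAt i) (hN : ∃ N : ℕ, ∀ i, N < i → IsZero (K.X i))
    (hP : ∀ i, 1 ≤ i → P₁ (K.X i)) : _root_.PCoh.IsOfFiniteType P (K.X 0) := by
  obtain ⟨N, hN⟩ := hN
  let L : CochainComplex C ℕ := CochainComplex.of (fun j => K.X (j + 1)) (fun j => K.d (j + 1) (j + 1 + 1))
    fun j => K.d_comp_d _ _ _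
  have hLd : ∀ j, L.d j (j + 1) = K.d (j + 1) (j + 1 + 1) := fun j =>
    CochainComplex.of_d (fun j => K.X (j + 1)) (fun j => K.d (j + 1) (j + 1 + 1)) j
  let G := L.extend ComplexShape.embeddingUpNat
  have hX : ∀ j : ℕ, Nonempty (G.X (j : ℤ) ≅ K.X (j + 1)) := fun j =>
    ⟨L.extendXIso ComplexShape.embeddingUpNat (i := j) rfl⟩
  have hG : _root_.PCoh.IsStrictPC P₁ 0 G := by
    refine ⟨⟨N, fun i hi => ?_⟩, fun i hi => ?_⟩
    · obtain ⟨j, rfl⟩ : ∃ j : ℕ, i = j := ⟨i.toNat, by omega⟩
      exact (hN (j + 1) (by omega)).of_iso (hX j).some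
    · obtain ⟨j, rfl⟩ : ∃ j : ℕ, i = j := ⟨i.toNat, by omega⟩
      exact P₁.prop_of_iso (hX j).some.symm (hP _ (by omega))
  have hex : ∀ i, 0 < i → G.ExactAt i := fun i hi => by
    obtain ⟨j, rfl⟩ : ∃ j : ℕ, i = ((j + 1 : ℕ) : ℤ) := ⟨i.toNat - 1, by omega⟩
    refine (L.extend_exactAt_iff ComplexShape.embeddingUpNat (j := j + 1) rfl).2 ?_
    rw [L.exactAt_iff' j (j + 1) (j + 1 + 1) (by simp) (by simp)]
    refine (ShortComplex.exact_iff_of_iso (ShortComplex.isoMk (S₁ := L.sc' j (j + 1) (j + 1 + 1))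
      (S₂ := K.sc' (j + 1) (j + 1 + 1) (j + 1 + 1 + 1)) (Iso.refl _) (Iso.refl _) (Iso.refl _) ?_ ?_)).2
      ((K.exactAt_iff' _ _ _ (by simp) (by simp)).1 (hK _))
    · exact (Category.id_comp _).trans ((Category.comp_id _).trans (hLd j)).symm
    · exact (Category.id_comp _).trans ((Category.comp_id _).trans (hLd (j + 1))).symm
  have h01 : K.d 0 1 ≫ L.d 0 1 = 0 := by rw [hLd]; exact K.d_comp_d _ _ _
  have hm : Mono (K.d 0 1) := by
    have := (K.exactAt_iff' 0 0 1 (by simp) (by simp)).1 (hK 0)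
    exact (ShortComplex.exact_iff_mono _ (K.shape 0 0 (by simp))).1 this
  have hl : IsIso (L.liftCycles (K.d 0 1) 1 (by simp) h01) := by
    rw [CochainComplex.isIso_liftCycles_iff]
    refine ⟨?_, hm⟩
    refine (ShortComplex.exact_iff_of_iso (ShortComplex.isoMk (S₁ := ShortComplex.mk (K.d 0 1) (L.d 0 1) h01)
      (S₂ := K.sc' 0 1 2) (Iso.refl _) (Iso.refl _) (Iso.refl _) ?_ ?_)).2
      ((K.exactAt_iff' _ _ _ (by simp) (by simp)).1 (hK 1))
    · exact (Category.id_comp _).trans (Category.comp_id _).symm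
    · exact (Category.id_comp _).trans ((Category.comp_id _).trans (hLd 0)).symm
  exact IsOfFiniteType.of_epi ((L.extendHomologyIso ComplexShape.embeddingUpNat (j := 0) rfl).hom ≫
    (CochainComplex.isoHomologyπ₀ L).inv ≫ (@asIso _ _ _ _ _ hl).inv) (H G hG hex)

/-- An intermediate class is again quasi-liftable and quasi-stable. -/
theorem quasiLiftable_and_quasiStable {P₁ : ObjectProperty C} [P₁.ContainsZero]
    [P₁.IsClosedUnderIsomorphisms] (hle : ∀ X, P X → P₁ X)
    (hpc : ∀ X, P₁ X → ∀ n : ℤ, PCn P n ((DerivedCategory.singleFunctor C 0).obj X)) :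
    _root_.PCoh.IsQuasiLiftable P₁ ∧ _root_.PCoh.IsQuasiStableUnderKernels P₁ := by
  refine ⟨fun E F u hu hF => ?_, fun K hK hN hP => ?_⟩
  · obtain ⟨X, π, hX, hπ⟩ := IsOfFiniteType.of_epi (homologySingleIso F 0).hom
      ((pcn_iff_isOfFiniteType hsum hqs hql fun i hi => isZero_homology_single F 0 i (by omega)).1 (hpc F hF 0))
    obtain ⟨E', e, l, hE', he, hl⟩ := exists_lift hql u π hX
    exact ⟨E', l, hle _ hE', by rw [hl]; exact epi_comp _ _⟩
  · obtain ⟨X, π, hX, hπ⟩ := isOfFiniteType_zero_of_exact (P := P) hql (fun G hG hex => by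
      obtain ⟨b, hb⟩ := hG.1
      have h := pcn_of_termwise hsum hqs hql b hb fun i hi => hpc _ (hG.2 i hi) (0 - i)
      exact IsOfFiniteType.of_iso ((homologyFunctorFactors C 0).app G)
        ((pcn_iff_isOfFiniteType hsum hqs hql fun i hi => (isZero_homology_Q_iff G i).2 (hex i hi)).1 h))
      K hK hN hP
    exact ⟨X, π, hle _ hX, hπ⟩

omit hqs in
theorem quasiStable_of_coherent (hcoh : ∀ (X E : C) (u : E ⟶ X), P X → P E →
    _root_.PCoh.IsOfFiniteType P (kernel u)) : _root_.PCoh.IsQuasiStableUnderKernels P := by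
  intro K hK _ hP
  have hm : Mono (K.d 0 1) := by
    have := (K.exactAt_iff' 0 0 1 (by simp) (by simp)).1 (hK 0)
    exact (ShortComplex.exact_iff_mono _ (K.shape 0 0 (by simp))).1 this
  let S := K.sc' 0 1 2
  have : Mono S.f := hm
  have hS : S.Exact := (K.exactAt_iff' _ _ _ (by simp) (by simp)).1 (hK 1)
  exact IsOfFiniteType.of_iso ((kernelIsKernel S.g).conePointUniqueUpToIso hS.fIsKernel)
    (hcoh _ _ S.g (hP 2 (by omega)) (hP 1 le_rfl))

omit hqs in
theorem pcn_single_of_preCoh (hcoh : ∀ (X E : C) (u : E ⟶ X), P X → P E →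
    _root_.PCoh.IsOfFiniteType P (kernel u)) (k : ℤ) (M : C)
    (hM : _root_.PCoh.IsOfFiniteType P M) (hk : k < 0 → PreCoh P M) :
    PCn P k ((DerivedCategory.singleFunctor C 0).obj M) := by
  have hqs := quasiStable_of_coherent hsum hql hcoh
  suffices H : ∀ (j : ℕ) (M : C), _root_.PCoh.IsOfFiniteType P M → (0 < j → PreCoh P M) →
      PCn P (-(j : ℤ)) ((DerivedCategory.singleFunctor C 0).obj M) by
    exact (H (-k).toNat M hM fun h => hk (by omega)).mono (by omega)
  intro j
  induction j with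
  | zero =>
    intro M hM _
    exact (pcn_iff_isOfFiniteType hsum hqs hql fun i hi => isZero_homology_single M 0 i (by omega)).2
      (IsOfFiniteType.of_epi (homologySingleIso M 0).inv hM)
  | succ j ih =>
    intro M hM hc
    obtain ⟨X, π, hX, hπ⟩ := hM
    let S := ShortComplex.mk (kernel.ι π) π (kernel.condition π)
    have hS : S.ShortExact :=
      { exact := ShortComplex.exact_of_f_is_kernel S (kernelIsKernel π)
        mono_f := inferInstanceAs (Mono (kernel.ι π))
        epi_g := hπ }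
    have h₁ : PCn P (-((j + 1 : ℕ) : ℤ) + 1) ((DerivedCategory.singleFunctor C 0).obj (kernel π)) :=
      (ih (kernel π) (hc (by omega) X π hX)
        fun _ => PreCoh.of_mono (kernel.ι π) fun E u hE => hcoh X E u hX hE).mono (by omega)
    exact pcn_obj₃ hsum hqs hql _ hS.singleTriangle_distinguished h₁ (pcn_single_of_prop hX _)

end Groth.Agent.PCoh
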