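import Groth.Agent.Lib.PCoh.Infinite
import Mathlib.Algebra.Homology.HomologicalComplexBiprod

/-!
Perfect complexes relative to a liftable subcategory stable under kernels of epimorphisms.
-/

set_option autoImplicit false

universe w v u

open CategoryTheory CategoryTheory.Limits CategoryTheory.Pretriangulated

namespace Groth.Agent.PCoh

open CochainComplex HomologicalComplex

variable {C : Type u} [Category.{v} C] [Abelian C] {P : ObjectProperty C}
  [P.IsClosedUnderIsomorphisms]

section Kernels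

variable (hst : ∀ (E F : C) (u : E ⟶ F), Epi u → P E → P F → P (kernel u))

include hst

theorem prop_kernel_of_exact {S : ShortComplex C} (hS : S.Exact) (h₁ : P S.X₁)
    (h : P (kernel S.g)) : P (kernel S.f) := by
  have := hS.epi_kernelLift
  exact P.prop_of_iso ((kernelCompMono (kernel.lift S.g S.f S.zero) (kernel.ι S.g)).symm ≪≫
    kernelIsoOfEq (kernel.lift_ι _ _ _)) (hst _ _ _ this h₁ h)

theorem prop_kernel_d [P.ContainsZero] (K : CochainComplex C ℤ) (n b : ℤ)
    (hb : ∀ i, b < i → IsZero (K.X i)) (hex : ∀ i, n < i → K.ExactAt i)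
    (hP : ∀ i, n ≤ i → P (K.X i)) (i : ℤ) (hi : n ≤ i) : P (kernel (K.d i (i + 1))) := by
  suffices ∀ (k : ℕ) (i : ℤ), n ≤ i → b < i + k → P (kernel (K.d i (i + 1))) from
    this ((b - i).toNat + 1) i hi (by omega)
  intro k
  induction k with
  | zero =>
    exact fun i _ hb' => prop_of_isZero ((hb i (by omega)).of_mono (kernel.ι _))
  | succ k ih =>
    intro i hi hb'
    exact prop_kernel_of_exact hst
      ((K.exactAt_iff' i (i + 1) (i + 1 + 1) (by simp) (by simp)).1 (hex _ (by omega))) (hP i hi)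
      (ih (i + 1) (by omega) (by omega))

theorem isQuasiStableUnderKernels [P.ContainsZero] : _root_.PCoh.IsQuasiStableUnderKernels P := by
  intro K hK ⟨n, hn⟩ hP
  have h1 : ∀ (k i : ℕ), 1 ≤ i → n < i + k → P (kernel (K.d i (i + 1))) := by
    intro k
    induction k with
    | zero => exact fun i _ h => prop_of_isZero ((hn i (by omega)).of_mono (kernel.ι _))
    | succ k ih =>
      intro i hi hb'
      exact prop_kernel_of_exact hst
        ((K.exactAt_iff' i (i + 1) (i + 2) (by simp) (by simp)).1 (hK _)) (hP i hi)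
        (ih (i + 1) (by omega) (by omega))
  have h : (K.sc' 0 1 2).Exact := (K.exactAt_iff' 0 1 2 (by simp) (by simp)).1 (hK 1)
  have : Mono (K.d 0 1) := by
    have h0 := (K.exactAt_iff' 0 0 1 (by simp) (by simp)).1 (hK 0)
    exact h0.mono_g (K.shape 0 0 (by simp))
  let e : K.X 0 ≅ kernel (K.d 1 2) :=
    IsLimit.conePointUniqueUpToIso (@ShortComplex.Exact.fIsKernel _ _ _ (K.sc' 0 1 2) _ h this)
      (limit.isLimit _)
  exact isOfFiniteType_of_prop (P.prop_of_iso e.symm (h1 n 1 le_rfl (by omega)))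

end Kernels

omit [P.IsClosedUnderIsomorphisms] in
theorem isQuasiLiftable (hlift : ∀ (E F : C) (u : E ⟶ F), Epi u → P F → IsSplitEpi u) :
    _root_.PCoh.IsQuasiLiftable P := fun E F u hu hF => by
  have := hlift E F u hu hF
  exact ⟨F, section_ u, hF, by rw [IsSplitEpi.id]; infer_instance⟩

variable (hsum : ∀ X Y : C, P X → P Y → P (X ⨯ Y))
  (hlift : ∀ (E F : C) (u : E ⟶ F), Epi u → P F → IsSplitEpi u)
  (hst : ∀ (E F : C) (u : E ⟶ F), Epi u → P E → P F → P (kernel u))

include hsum hlift in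
theorem prop_extension {S : ShortComplex C} (hS : S.ShortExact) (h₁ : P S.X₁) (h₃ : P S.X₃) :
    P S.X₂ := by
  have := hS.epi_g
  have := hlift _ _ S.g hS.epi_g h₃
  exact P.prop_of_iso
    (ShortComplex.Splitting.ofExactOfSection S hS.exact (section_ S.g) (IsSplitEpi.id _)
      hS.mono_f).isoBinaryBiproduct.symm (prop_biprod hsum h₁ h₃)

variable [P.ContainsZero]

include hst in
theorem prop_cokernel_d (K : CochainComplex C ℤ) (b : ℤ) (hb : ∀ i, b < i → IsZero (K.X i))
    (hex : ∀ i, K.ExactAt i) (hP : ∀ i, P (K.X i)) (i j : ℤ) (hij : i + 1 = j) :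
    P (cokernel (K.d i j)) := by
  subst hij
  have h₁ := (K.exactAt_iff' i (i + 1) (i + 1 + 1) (by simp) (by simp)).1 (hex _)
  have h₂ := (K.exactAt_iff' (i + 1) (i + 1 + 1) (i + 1 + 1 + 1) (by simp) (by simp)).1 (hex _)
  let φ : cokernel (K.d i (i + 1)) ⟶ kernel (K.d (i + 1 + 1) (i + 1 + 1 + 1)) :=
    cokernel.desc _ (kernel.lift _ (K.d (i + 1) (i + 1 + 1)) (K.d_comp_d _ _ _))
      (by rw [← cancel_mono (kernel.ι _)]; simp)
  have : Epi φ := by
    have : Epi (kernel.lift _ (K.d (i + 1) (i + 1 + 1)) (K.d_comp_d (i + 1) (i + 1 + 1) (i + 1 + 1 + 1))) :=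
      h₂.epi_kernelLift
    exact epi_of_epi_fac (cokernel.π_desc _ _ _)
  have : Mono φ := by
    have : Mono (cokernel.desc (K.d i (i + 1)) (K.d (i + 1) (i + 1 + 1)) (K.d_comp_d _ _ _)) :=
      h₁.mono_cokernelDesc
    exact mono_of_mono_fac (show φ ≫ kernel.ι _ = cokernel.desc (K.d i (i + 1)) (K.d (i + 1) (i + 1 + 1)) (K.d_comp_d _ _ _)
        by apply coequalizer.hom_ext; simp [φ])
  have := isIso_of_mono_of_epi φ
  exact P.prop_of_iso (asIso φ).symm
    (prop_kernel_d hst K (i + 1 + 1) b hb (fun l _ => hex l) (fun l _ => hP l) _ le_rfl)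

theorem exactAt_mappingCone {E F : CochainComplex C ℤ} (s : E ⟶ F) [QuasiIso s] (i : ℤ) :
    (mappingCone s).ExactAt i :=
  nIso_of_quasiIso s i i le_rfl

include hsum hst in
/-- The opcycles of a resolution in a degree below which the resolved complex vanishes. -/
theorem prop_opcycles {E E₁ : CochainComplex C ℤ} (s : E ⟶ E₁) [QuasiIso s] (a b : ℤ)
    (hE : ∀ i, P (E.X i)) (hE₁ : ∀ i, P (E₁.X i)) (hz : ∀ i, b < i → IsZero (E.X i))
    (hz₁ : ∀ i, i < a ∨ b < i → IsZero (E₁.X i)) : P (E.opcycles a) := by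
  let φ := fun (k j : ℤ) (h : k + 1 = j) => (mappingCone.fst s).1.v k j h
  have hφ : ∀ (k j : ℤ) (h : k + 1 = j), k < a → IsIso (φ k j h) := fun k j h hk =>
    ⟨(mappingCone.inl s).v j k (by omega), by
      rw [mappingCone.ext_from_iff s j k h]
      exact ⟨by simp [φ], (hz₁ k (Or.inl hk)).eq_of_src _ _⟩, by simp [φ]⟩
  have comm : (mappingCone s).d (a - 2) (a - 1) ≫ φ (a - 1) a (by omega) =
      φ (a - 2) (a - 1) (by omega) ≫ (-E.d (a - 1) a) := by
    simp [φ, mappingCone.d_fst_v s (a - 2) (a - 1) a (by omega) (by omega)]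
  have p₁ : a - 2 + 1 = a - 1 := by omega
  have p₂ : a - 1 + 1 = a := by omega
  have := hφ (a - 2) (a - 1) p₁ (by omega)
  have := hφ (a - 1) a p₂ (by omega)
  let e₁ : cokernel ((mappingCone s).d (a - 2) (a - 1)) ≅ cokernel (-E.d (a - 1) a) :=
    cokernel.mapIso _ _ (asIso (φ (a - 2) (a - 1) p₁)) (asIso (φ (a - 1) a p₂)) comm
  let e₂ : cokernel (-E.d (a - 1) a) ≅ cokernel (E.d (a - 1) a) :=
    cokernel.mapIso _ _ (-(Iso.refl _)) (Iso.refl _) (by simp)
  let e₃ : cokernel (E.d (a - 1) a) ≅ E.opcycles a :=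
    IsColimit.coconePointUniqueUpToIso (colimit.isColimit _)
      (E.opcyclesIsCokernel (a - 1) a (by simp))
  refine P.prop_of_iso (e₁ ≪≫ e₂ ≪≫ e₃) (prop_cokernel_d hst (mappingCone s) b
    (fun i hi => isZero_mappingCone_X s i (hz _ (by omega)) (hz₁ _ (Or.inr hi)))
    (exactAt_mappingCone s) (fun i => prop_mappingCone_X hsum s i (hE _) (hE₁ _)) _ _ (by omega))

/-- All terms in `P`, zero outside `[a, b]`. -/
def Perf (P : ObjectProperty C) (E : CochainComplex C ℤ) (a b : ℤ) : Prop :=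
  (∀ i, P (E.X i)) ∧ ∀ i, i < a ∨ b < i → IsZero (E.X i)

omit [P.IsClosedUnderIsomorphisms] [P.ContainsZero] in
theorem Perf.strictAll {E : CochainComplex C ℤ} {a b : ℤ} (h : Perf P E a b) :
    _root_.PCoh.IsStrictPCAll P E := ⟨⟨b, fun i hi => h.2 i (Or.inr hi)⟩, h.1⟩

variable [HasDerivedCategory.{w} C]

include hsum hlift hst in
/-- Right fractions with a bounded middle term. -/
theorem exists_roof {E₁ F : CochainComplex C ℤ} (a b : ℤ) (hE₁ : Perf P E₁ a b)
    (hF : ∀ i, i < a → IsZero (F.X i)) (α : DerivedCategory.Q.obj E₁ ⟶ DerivedCategory.Q.obj F) :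
    ∃ (E : CochainComplex C ℤ) (s : E ⟶ E₁) (g : E ⟶ F), Perf P E a b ∧ QuasiIso s ∧
      DerivedCategory.Q.map s ≫ α = DerivedCategory.Q.map g := by
  have hqs := isQuasiStableUnderKernels hst
  have hql := isQuasiLiftable hlift
  obtain ⟨G, s, hs, g, rfl⟩ := DerivedCategory.right_fac α
  have hs' : QuasiIso s := (DerivedCategory.isIso_Q_map_iff_quasiIso C s).1 hs
  obtain ⟨E, v, hP, hz, hv⟩ := exists_strictAll_quasiIso hsum hqs hql (G := G)
    (fun n => PCn.of_iso (isPC_Q_of_strictAll hE₁.strictAll n) (asIso (DerivedCategory.Q.map s)).symm)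
    (b + 1) (exactAt_of_quasiIso_of_bounded s b fun i hi => hE₁.2 i (Or.inr hi))
  let t := v ≫ s
  have ht : QuasiIso t := inferInstanceAs (QuasiIso (v ≫ s))
  have hge : E.IsGE a := (CochainComplex.isGE_iff _ _).2 fun i hi => by
    rw [exactAt_iff_isZero_homology]
    exact ((exactAt_iff_isZero_homology _ _).1 (ExactAt.of_isZero (hE₁.2 i (Or.inl hi)))).of_iso
      (asIso (homologyMap t i))
  have h₁ : E₁.IsStrictlyGE a := (CochainComplex.isStrictlyGE_iff _ _).2 fun i hi => hE₁.2 i (Or.inl hi)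
  have h₂ : F.IsStrictlyGE a := (CochainComplex.isStrictlyGE_iff _ _).2 hF
  let s₀ : E.truncGE a ⟶ E₁ := CochainComplex.truncGEMap t a ≫ inv (E₁.πTruncGE a)
  let g₀ : E.truncGE a ⟶ F := CochainComplex.truncGEMap (v ≫ g) a ≫ inv (F.πTruncGE a)
  have hs₀ : E.πTruncGE a ≫ s₀ = t := by
    change E.πTruncGE a ≫ CochainComplex.truncGEMap t a ≫ inv (E₁.πTruncGE a) = t
    rw [← Category.assoc, CochainComplex.πTruncGE_naturality, Category.assoc, IsIso.hom_inv_id, Category.comp_id]
  have hg₀ : E.πTruncGE a ≫ g₀ = v ≫ g := by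
    change E.πTruncGE a ≫ CochainComplex.truncGEMap (v ≫ g) a ≫ inv (F.πTruncGE a) = v ≫ g
    rw [← Category.assoc, CochainComplex.πTruncGE_naturality, Category.assoc, IsIso.hom_inv_id, Category.comp_id]
  have hq : QuasiIso s₀ := by
    have : QuasiIso (E.πTruncGE a ≫ s₀) := hs₀ ▸ ht
    exact quasiIso_of_comp_left (E.πTruncGE a) s₀
  refine ⟨E.truncGE a, s₀, g₀, ⟨fun i => ?_, fun i hi => ?_⟩, hq, ?_⟩
  · rcases lt_trichotomy i a with h | rfl | h
    · exact prop_of_isZero (CochainComplex.isZero_of_isStrictlyGE (E.truncGE a) a i h)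
    · exact P.prop_of_iso (E.truncGEXIsoOpcycles i).symm
        (prop_opcycles hsum hst t i b hP hE₁.1 (fun l hl => hz l (by omega)) hE₁.2)
    · exact P.prop_of_iso (E.truncGEXIso a i h).symm (hP i)
  · rcases hi with h | h
    · exact CochainComplex.isZero_of_isStrictlyGE (E.truncGE a) a i h
    · rcases lt_trichotomy i a with h' | rfl | h'
      · exact CochainComplex.isZero_of_isStrictlyGE (E.truncGE a) a i h'
      · exact ((hz i (by omega)).of_epi (E.pOpcycles i)).of_iso (E.truncGEXIsoOpcycles i)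
      · exact (hz i (by omega)).of_iso (E.truncGEXIso a i h')
  · have : IsIso (DerivedCategory.Q.map (E.πTruncGE a)) :=
      (DerivedCategory.isIso_Q_map_iff_quasiIso C _).2 inferInstance
    rw [← cancel_epi (DerivedCategory.Q.map (E.πTruncGE a)), ← CategoryTheory.Functor.map_comp,
      ← CategoryTheory.Functor.map_comp_assoc, hg₀, hs₀]
    simp [t]

include hsum hlift hst in
/-- The bottom term of a bounded complex of perfect amplitude `[a, b]`. -/
theorem prop_bottom (a b : ℤ) {F : CochainComplex C ℤ}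
    (hvan : ∀ i, i < a ∨ b < i → IsZero (F.X i)) (hP : ∀ i, a < i → P (F.X i))
    {E : CochainComplex C ℤ} (hE : Perf P E a b)
    (e : DerivedCategory.Q.obj E ≅ DerivedCategory.Q.obj F) : P (F.X a) := by
  obtain ⟨E', s, g, hE', hs, fac⟩ := exists_roof hsum hlift hst a b hE (fun i hi => hvan i (Or.inl hi)) e.hom
  have hg : QuasiIso g := by
    rw [← DerivedCategory.isIso_Q_map_iff_quasiIso, ← fac]
    have := (DerivedCategory.isIso_Q_map_iff_quasiIso C s).2 hs
    infer_instance
  let K := mappingCone g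
  have hK : ∀ i, a < i → P (K.X i) := fun i hi => prop_mappingCone_X hsum g i (hE'.1 _) (hP i hi)
  have hbd : ∀ i, b < i → IsZero (K.X i) := fun i hi =>
    isZero_mappingCone_X g i (hE'.2 _ (by omega)) (hvan i (Or.inr hi))
  have h2 : P (kernel (K.d (a + 1) (a + 1 + 1))) :=
    prop_kernel_d hst K (a + 1) b hbd (fun i _ => exactAt_mappingCone g i) (fun i hi => hK i (by omega)) _ le_rfl
  have hXm : P (K.X (a - 1)) := by
    have p : a + (-1) = a - 1 := by omega
    have : IsIso ((mappingCone.inl g).v a (a - 1) p) :=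
      ⟨(mappingCone.fst g).1.v (a - 1) a (by omega), by simp, by
        rw [mappingCone.ext_from_iff g a (a - 1) (by omega)]
        exact ⟨by simp, (hvan (a - 1) (Or.inl (by omega))).eq_of_src _ _⟩⟩
    exact P.prop_of_iso (asIso ((mappingCone.inl g).v a (a - 1) p)) (hE'.1 a)
  have hA : (K.sc' (a - 1) a (a + 1)).Exact :=
    (K.exactAt_iff' _ _ _ (by simp) (by simp)).1 (exactAt_mappingCone g a)
  have hB : (K.sc' a (a + 1) (a + 1 + 1)).Exact :=
    (K.exactAt_iff' _ _ _ (by simp) (by simp)).1 (exactAt_mappingCone g (a + 1))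
  have hm : Mono (K.d (a - 1) a) :=
    ((K.exactAt_iff' (a - 2) (a - 1) a (by simp; omega) (by simp)).1 (exactAt_mappingCone g _)).mono_g
      ((isZero_mappingCone_X g (a - 2) (hE'.2 _ (Or.inl (by omega))) (hvan _ (Or.inl (by omega)))).eq_of_src _ _)
  let S := ShortComplex.mk (K.d (a - 1) a)
    (kernel.lift (K.d (a + 1) (a + 1 + 1)) (K.d a (a + 1)) (K.d_comp_d _ _ _))
    (by rw [← cancel_mono (kernel.ι _)]; simp)
  have : Epi S.g := hB.epi_kernelLift
  have : Mono S.f := hm
  have hS : S.ShortExact := ⟨by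
    let φ : S ⟶ K.sc' (a - 1) a (a + 1) :=
      { τ₁ := 𝟙 _, τ₂ := 𝟙 _, τ₃ := kernel.ι _, comm₁₂ := (Category.id_comp _).trans (Category.comp_id _).symm,
        comm₂₃ := (Category.id_comp _).trans (kernel.lift_ι _ _ _).symm }
    have : Epi φ.τ₁ := inferInstanceAs (Epi (𝟙 _))
    have : IsIso φ.τ₂ := inferInstanceAs (IsIso (𝟙 _))
    have : Mono φ.τ₃ := inferInstanceAs (Mono (equalizer.ι (K.d (a + 1) (a + 1 + 1)) 0))
    exact (ShortComplex.exact_iff_of_epi_of_isIso_of_mono φ).2 hA⟩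
  have hXa : P (K.X a) := prop_extension hsum hlift hS hXm h2
  let T := ShortComplex.mk ((mappingCone.inr g).f a) ((mappingCone.fst g).1.v a (a + 1) rfl) (by simp)
  have sp : T.Splitting :=
    { r := (mappingCone.snd g).v a a (add_zero a)
      s := (mappingCone.inl g).v (a + 1) a (by omega)
      f_r := by simp [T]
      s_g := by simp [T]
      id := by
        dsimp [T]
        rw [add_comm]
        exact mappingCone.id_X g a (a + 1) rfl }
  have := sp.shortExact.mono_f
  exact P.prop_of_iso (IsLimit.conePointUniqueUpToIso (limit.isLimit _) sp.shortExact.fIsKernel)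
    (hst _ _ T.g sp.shortExact.epi_g hXa (hE'.1 _))

end Groth.Agent.PCoh
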