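import Groth.Prelude.Def_PCoh
import Mathlib.Algebra.Homology.DerivedCategory.HomologySequence
import Mathlib.Algebra.Homology.DerivedCategory.Fractions
import Mathlib.Algebra.Homology.Embedding.CochainComplex
import Mathlib.Algebra.Homology.HomotopyCategory.Pretriangulated

/-!
Morphisms of complexes which are isomorphisms on cohomology above a degree, and the modification
of their source along a morphism into the mapping cone.
-/

set_option autoImplicit false

universe w v u

open CategoryTheory CategoryTheory.Limits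

namespace Groth.Agent.PCoh

open CochainComplex HomologicalComplex

variable {C : Type u} [Category.{v} C] [Abelian C]
variable {E F G : CochainComplex C ℤ}

/-- The cone of `u` is exact in degrees `≥ k`. -/
def NIso (u : E ⟶ F) (k : ℤ) : Prop := ∀ i : ℤ, k ≤ i → (mappingCone u).ExactAt i

theorem NIso.mono {u : E ⟶ F} {k k' : ℤ} (h : NIso u k) (hk : k ≤ k') : NIso u k' :=
  fun i hi => h i (hk.trans hi)

theorem NIso.of_iff {u : E ⟶ F} {k : ℤ} (h₁ : ∀ i, k < i → IsIso (homologyMap u i))
    (h₂ : Epi (homologyMap u k)) : NIso u k := fun i hi => by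
  let := HasDerivedCategory.standard C
  have hT := DerivedCategory.mappingCone_triangle_distinguished u
  have he : Epi (homologyMap u i) := by
    rcases hi.lt_or_eq with h | rfl
    · have := h₁ i h
      infer_instance
    · exact h₂
  have hm : Mono (homologyMap u (i + 1)) := by
    have := h₁ (i + 1) (by omega)
    infer_instance
  rw [exactAt_iff_isZero_homology]
  have z₁ : homologyMap (mappingCone.triangle u).mor₂ i = 0 := by
    have : Epi (homologyMap (mappingCone.triangle u).mor₁ i) := he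
    rw [← cancel_epi (homologyMap (mappingCone.triangle u).mor₁ i)]
    exact (homologyMap_comp_eq_zero_of_distTriang _ hT i).trans comp_zero.symm
  have z₂ : homologyδOfTriangle (mappingCone.triangle u) i (i + 1) rfl = 0 := by
    have : Mono (homologyMap (mappingCone.triangle u).mor₁ (i + 1)) := hm
    rw [← cancel_mono (homologyMap (mappingCone.triangle u).mor₁ (i + 1))]
    exact (homologyδOfTriangle_homologyMap _ hT i (i + 1) rfl).trans zero_comp.symm
  exact (homologyMap_exact₃_of_distTriang _ hT i (i + 1) rfl).isZero_of_both_zeros z₁ z₂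

theorem NIso.isIso {u : E ⟶ F} {k : ℤ} (h : NIso u k) (i : ℤ) (hi : k < i) :
    IsIso (homologyMap u i) := by
  let := HasDerivedCategory.standard C
  have hT := DerivedCategory.mappingCone_triangle_distinguished u
  have he : Epi (homologyMap u i) :=
    (homologyMap_exact₂_of_distTriang _ hT i).epi_f
      (((exactAt_iff_isZero_homology _ _).1 (h i hi.le)).eq_of_tgt _ _)
  have hm : Mono (homologyMap u i) :=
    (homologyMap_exact₁_of_distTriang _ hT (i - 1) i (by omega)).mono_g
      (((exactAt_iff_isZero_homology _ _).1 (h (i - 1) (by omega))).eq_of_src _ _)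
  exact isIso_of_mono_of_epi _

theorem NIso.epi {u : E ⟶ F} {k : ℤ} (h : NIso u k) : Epi (homologyMap u k) := by
  let := HasDerivedCategory.standard C
  exact (homologyMap_exact₂_of_distTriang _ (DerivedCategory.mappingCone_triangle_distinguished u) k).epi_f
    (((exactAt_iff_isZero_homology _ _).1 (h k le_rfl)).eq_of_tgt _ _)

theorem quasiIso_of_forall_nIso {u : E ⟶ F} (h : ∀ k, NIso u k) : QuasiIso u := by
  rw [quasiIso_iff]
  intro i
  rw [quasiIsoAt_iff_isIso_homologyMap]
  exact (h (i - 1)).isIso i (by omega)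

theorem nIso_of_quasiIso (u : E ⟶ F) [QuasiIso u] (k : ℤ) : NIso u k :=
  NIso.of_iff (fun _ _ => inferInstance) inferInstance

theorem NIso.comp_quasiIso {u : E ⟶ F} {k : ℤ} (h : NIso u k) (g : F ⟶ G) [QuasiIso g] :
    NIso (u ≫ g) k := by
  refine NIso.of_iff (fun i hi => ?_) ?_
  · have := h.isIso i hi
    rw [homologyMap_comp]
    infer_instance
  · have := h.epi
    rw [homologyMap_comp]
    exact epi_comp _ _

section Ext

variable {u : E ⟶ F} {Q : CochainComplex C ℤ} (ψ : Q ⟶ mappingCone u)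

/-- The component `Qⁱ ⟶ Eⁱ⁺¹` of a morphism into the cone. -/
noncomputable abbrev α (i j : ℤ) (hij : i + 1 = j) : Q.X i ⟶ E.X j :=
  ψ.f i ≫ (mappingCone.fst u).1.v i j hij

/-- The component `Qⁱ ⟶ Fⁱ` of a morphism into the cone. -/
noncomputable abbrev β (i : ℤ) : Q.X i ⟶ F.X i :=
  ψ.f i ≫ (mappingCone.snd u).v i i (add_zero i)

theorem d_α (i j k : ℤ) (hij : i + 1 = j) (hjk : j + 1 = k) :
    Q.d i j ≫ α ψ j k hjk = -(α ψ i j hij ≫ E.d j k) := by
  simp [α, ← ψ.comm_assoc, mappingCone.d_fst_v u i j k hij hjk]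

theorem d_β (i j : ℤ) (hij : i + 1 = j) :
    Q.d i j ≫ β ψ j = α ψ i j hij ≫ u.f j + β ψ i ≫ F.d i j := by
  simp [α, β, ← ψ.comm_assoc, mappingCone.d_snd_v u i j hij]

/-- The modification of `E` along `ψ : Q ⟶ mappingCone u`. -/
@[reducible] noncomputable def ext : CochainComplex C ℤ where
  X i := E.X i ⊞ Q.X i
  d i j := if h : i + 1 = j then
      biprod.fst ≫ E.d i j ≫ biprod.inl +
        (biprod.snd ≫ Q.d i j ≫ biprod.inr - biprod.snd ≫ α ψ i j h ≫ biprod.inl)
    else 0
  shape i j h := dif_neg h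
  d_comp_d' i j k hij hjk := by
    simp only [ComplexShape.up_Rel] at hij hjk
    rw [dif_pos hij, dif_pos hjk]
    apply biprod.hom_ext' <;> apply biprod.hom_ext <;>
      simp [d_α ψ i j k hij hjk, reassoc_of% (d_α ψ i j k hij hjk)]

theorem ext_X (i : ℤ) : (ext ψ).X i = (E.X i ⊞ Q.X i) := rfl

theorem ext_d (i j : ℤ) (h : i + 1 = j) : (ext ψ).d i j =
    biprod.fst ≫ E.d i j ≫ biprod.inl +
      (biprod.snd ≫ Q.d i j ≫ biprod.inr - biprod.snd ≫ α ψ i j h ≫ biprod.inl) :=
  dif_pos h

/-- `E ⟶ ext ψ`. -/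
noncomputable def extι : E ⟶ ext ψ where
  f i := biprod.inl
  comm' i j (hij : i + 1 = j) := by
    rw [ext_d ψ i j hij]
    simp

/-- `ext ψ ⟶ F`. -/
noncomputable def extπ : ext ψ ⟶ F where
  f i := biprod.desc (u.f i) (β ψ i)
  comm' i j (hij : i + 1 = j) := by
    rw [ext_d ψ i j hij]
    apply biprod.hom_ext'
    · simp
    · simp [d_β ψ i j hij]

@[simp, reassoc]
theorem inl_extπ_f (i : ℤ) : biprod.inl ≫ (extπ ψ).f i = u.f i := biprod.inl_desc _ _

@[simp, reassoc]
theorem inr_extπ_f (i : ℤ) : biprod.inr ≫ (extπ ψ).f i = β ψ i := biprod.inr_desc _ _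

theorem extι_extπ : extι ψ ≫ extπ ψ = u := by
  ext i
  simp [extι, extπ]

theorem mono_extι (i : ℤ) : Mono ((extι ψ).f i) := inferInstanceAs (Mono biprod.inl)

theorem isIso_extι (i : ℤ) (h : IsZero (Q.X i)) : IsIso ((extι ψ).f i) :=
  ⟨biprod.fst, biprod.inl_fst, by
    apply biprod.hom_ext'
    · exact biprod.inl_fst_assoc _ |>.trans (Category.comp_id _).symm
    · exact h.eq_of_src _ _⟩

theorem epi_extι_cokernel (i : ℤ) : Nonempty (cokernel ((extι ψ).f i) ≅ Q.X i) :=
  ⟨(cokernelIsCokernel _).coconePointUniqueUpToIso (biprod.isCokernelInlCokernelFork _ _)⟩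

/-- The two cones have the same terms. -/
noncomputable def extConeHom : mappingCone (extπ ψ) ⟶ mappingCone ψ where
  f i := (mappingCone.fst (extπ ψ)).1.v i (i + 1) rfl ≫
      biprod.desc ((mappingCone.inl u).v (i + 1) i (by omega) ≫ (mappingCone.inr ψ).f i)
        ((mappingCone.inl ψ).v (i + 1) i (by omega)) +
    (mappingCone.snd (extπ ψ)).v i i (add_zero i) ≫ (mappingCone.inr u).f i ≫ (mappingCone.inr ψ).f i
  comm' i j (hij : i + 1 = j) := by
    subst hij
    rw [mappingCone.ext_from_iff (extπ ψ) (i + 1) i rfl]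
    refine ⟨?_, ?_⟩
    · rw [reassoc_of% (mappingCone.inl_v_d (extπ ψ) (i + 1) i (i + 1 + 1) (by omega) (by omega))]
      simp
      apply biprod.hom_ext'
      · simp
        erw [inl_extπ_f_assoc]
        rw [reassoc_of% (mappingCone.inl_v_d u (i + 1) i (i + 1 + 1) (by omega) (by omega))]
        simp
        abel
      · simp [ext_d ψ (i + 1) (i + 1 + 1) rfl, mappingCone.inl_v_d ψ (i + 1) i (i + 1 + 1) (by omega) (by omega)]
        rw [mappingCone.ext_to_iff ψ (i + 1) (i + 1 + 1) rfl]
        erw [inr_extπ_f_assoc]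
        simp
        rw [mappingCone.ext_to_iff u (i + 1) (i + 1 + 1) rfl]
        simp [α, β]
    · simp

theorem isIso_extConeHom : IsIso (extConeHom ψ) := by
  have : ∀ i, IsIso ((extConeHom ψ).f i) := fun i =>
    ⟨(mappingCone.fst ψ).1.v i (i + 1) rfl ≫ biprod.inr ≫ (mappingCone.inl (extπ ψ)).v (i + 1) i (by omega) +
      (mappingCone.snd ψ).v i i (add_zero i) ≫
        ((mappingCone.fst u).1.v i (i + 1) rfl ≫ biprod.inl ≫ (mappingCone.inl (extπ ψ)).v (i + 1) i (by omega) +
          (mappingCone.snd u).v i i (add_zero i) ≫ (mappingCone.inr (extπ ψ)).f i), by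
      rw [mappingCone.ext_from_iff (extπ ψ) (i + 1) i rfl]
      refine ⟨?_, by simp [extConeHom]⟩
      simp only [extConeHom, Category.comp_id, Category.assoc, Preadditive.comp_add, Preadditive.add_comp,
        mappingCone.inl_v_fst_v_assoc, mappingCone.inl_v_snd_v_assoc, zero_comp, add_zero]
      apply biprod.hom_ext'
      · simp
      · simp, by
      rw [mappingCone.ext_from_iff ψ (i + 1) i rfl]
      refine ⟨by simp [extConeHom], ?_⟩
      rw [mappingCone.ext_from_iff u (i + 1) i rfl]
      constructor <;> simp [extConeHom]⟩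
  exact HomologicalComplex.Hom.isIso_of_components _

theorem nIso_extπ_iff (k : ℤ) : NIso (extπ ψ) k ↔ NIso ψ k := by
  have := isIso_extConeHom ψ
  constructor
  · exact fun h i hi => (exactAt_iff_isZero_homology _ _).2
      (((exactAt_iff_isZero_homology _ _).1 (h i hi)).of_iso
        (asIso (homologyMap (extConeHom ψ) i)).symm)
  · exact fun h i hi => (exactAt_iff_isZero_homology _ _).2
      (((exactAt_iff_isZero_homology _ _).1 (h i hi)).of_iso (asIso (homologyMap (extConeHom ψ) i)))

theorem quasiIso_extπ [QuasiIso ψ] : QuasiIso (extπ ψ) :=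
  quasiIso_of_forall_nIso fun k => (nIso_extπ_iff ψ k).2 (nIso_of_quasiIso ψ k)

end Ext

/-- An isomorphism on cohomology above `n`, epimorphic in degree `n`, factors as a monomorphism
which is bijective in degrees `≥ n` followed by a quasi-isomorphism. -/
theorem exists_factorisation {n : ℤ} {u : E ⟶ F} (h : NIso u n) :
    ∃ (E' : CochainComplex C ℤ) (v : E ⟶ E') (u' : E' ⟶ F), v ≫ u' = u ∧ QuasiIso u' ∧
      (∀ i : ℤ, Mono (v.f i)) ∧ (∀ i : ℤ, n ≤ i → IsIso (v.f i)) := by
  have : (mappingCone u).IsLE (n - 1) := by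
    rw [isLE_iff]
    exact fun i hi => h i (by omega)
  let ψ := (mappingCone u).ιTruncLE (n - 1)
  exact ⟨ext ψ, extι ψ, extπ ψ, extι_extπ ψ, quasiIso_extπ ψ, mono_extι ψ, fun i hi =>
    isIso_extι ψ i (isZero_of_isStrictlyLE ((mappingCone u).truncLE (n - 1)) (n - 1) i (by omega))⟩

end Groth.Agent.PCoh
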