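import Groth.Agent.Lib.PCoh.TwoOfThree
import Mathlib.CategoryTheory.Functor.OfSequence
import Mathlib.CategoryTheory.Limits.Constructions.EventuallyConstant
import Mathlib.Algebra.Homology.HomologicalComplexLimits

/-!
Resolutions of pseudo-coherent objects by complexes all of whose terms belong to the subcategory.
-/

set_option autoImplicit false

universe w v u

open CategoryTheory CategoryTheory.Limits CategoryTheory.Pretriangulated

namespace Groth.Agent.PCoh

open CochainComplex HomologicalComplex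

variable {C : Type u} [Category.{v} C] [Abelian C]

section Colimit

variable {X : ℕ → CochainComplex C ℤ} (f : ∀ j, X j ⟶ X (j + 1)) (m : ℤ)
  (hf : ∀ (j : ℕ) (i : ℤ), i ≠ m - (j + 1 : ℕ) → IsIso ((f j).f i))

include hf

theorem isIso_seq_map (j₀ : ℕ) (i : ℤ) (hi : m - j₀ ≤ i) (d : ℕ) :
    IsIso (((Functor.ofSequence f).map (homOfLE (Nat.le_add_right j₀ d))).f i) := by
  induction d with
  | zero =>
    have : (Functor.ofSequence f).map (homOfLE (Nat.le_add_right j₀ 0)) = 𝟙 _ :=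
      CategoryTheory.Functor.map_id _ _
    rw [this]
    infer_instance
  | succ d ih =>
    have := hf (j₀ + d) i (by omega)
    have e : (Functor.ofSequence f).map (homOfLE (Nat.le_add_right j₀ (d + 1))) =
        (Functor.ofSequence f).map (homOfLE (Nat.le_add_right j₀ d)) ≫ f (j₀ + d) :=
      ((Functor.ofSequence f).map_comp (homOfLE (Nat.le_add_right j₀ d))
        (homOfLE (Nat.le_add_right (j₀ + d) 1))).trans
        (congrArg _ (Functor.ofSequence_map_homOfLE_succ f (j₀ + d)))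
    refine (congrArg (fun g => IsIso (g.f i)) e).mpr ?_
    exact IsIso.comp_isIso' ih this

theorem eventuallyConstant (j₀ : ℕ) (i : ℤ) (hi : m - j₀ ≤ i) :
    (Functor.ofSequence f ⋙ HomologicalComplex.eval C (ComplexShape.up ℤ) i).IsEventuallyConstantFrom j₀ := by
  intro j φ
  obtain ⟨d, rfl⟩ := Nat.exists_eq_add_of_le (leOfHom φ)
  exact isIso_seq_map f m hf j₀ i hi d

theorem hasColimit_eval (i : ℤ) :
    HasColimit (Functor.ofSequence f ⋙ HomologicalComplex.eval C (ComplexShape.up ℤ) i) :=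
  (eventuallyConstant f m hf (m - i).toNat i (by omega)).hasColimit

theorem exists_seq_colimit {G : CochainComplex C ℤ} (w : ∀ j, X j ⟶ G)
    (hw : ∀ j, f j ≫ w (j + 1) = w j) :
    ∃ (L : CochainComplex C ℤ) (ι : ∀ j, X j ⟶ L) (u : L ⟶ G), (∀ j, ι j ≫ u = w j) ∧
      ∀ (j : ℕ) (i : ℤ), m - j ≤ i → IsIso ((ι j).f i) := by
  have := hasColimit_eval f m hf
  let F := Functor.ofSequence f
  let c : Cocone F := ⟨G, NatTrans.ofSequence w fun j => by
    rw [Functor.ofSequence_map_homOfLE_succ]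
    exact (hw j).trans (Category.comp_id _).symm⟩
  refine ⟨colimit F, colimit.ι F, colimit.desc F c, fun j => colimit.ι_desc c j, fun j i hi => ?_⟩
  exact (eventuallyConstant f m hf j i hi).isIso_ι_of_isColimit
    (isColimitOfPreserves (HomologicalComplex.eval C (ComplexShape.up ℤ) i) (colimit.isColimit F))

end Colimit

/-- The cone is exact in a degree as soon as it is exact for a source which agrees in the three
relevant degrees. -/
theorem exactAt_mappingCone_of_isIso {E L G : CochainComplex C ℤ} (ι : E ⟶ L) (u : L ⟶ G) (i : ℤ)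
    (hι : ∀ k, i ≤ k → IsIso (ι.f k)) (h : (mappingCone (ι ≫ u)).ExactAt i) :
    (mappingCone u).ExactAt i := by
  let φ : mappingCone (ι ≫ u) ⟶ mappingCone u := mappingCone.map _ _ ι (𝟙 G) (by simp)
  have hφ : ∀ k, i - 1 ≤ k → IsIso (φ.f k) := fun k hk => by
    have := hι (k + 1) (by omega)
    refine ⟨(mappingCone.fst u).1.v k (k + 1) rfl ≫ inv (ι.f (k + 1)) ≫
        (mappingCone.inl (ι ≫ u)).v (k + 1) k (by omega) +
      (mappingCone.snd u).v k k (add_zero k) ≫ (mappingCone.inr (ι ≫ u)).f k, ?_, ?_⟩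
    · rw [mappingCone.ext_from_iff (ι ≫ u) (k + 1) k rfl]
      constructor <;> simp [φ, mappingCone.map]
    · rw [mappingCone.ext_from_iff u (k + 1) k rfl]
      constructor <;> simp [φ, mappingCone.map]
  rw [exactAt_iff' _ (i - 1) i (i + 1) (by simp) (by simp)] at h ⊢
  exact (ShortComplex.exact_iff_of_iso (ShortComplex.isoMk (@asIso _ _ _ _ (φ.f (i - 1)) (hφ _ le_rfl))
    (@asIso _ _ _ _ (φ.f i) (hφ _ (by omega))) (@asIso _ _ _ _ (φ.f (i + 1)) (hφ _ (by omega)))
    (φ.comm _ _) (φ.comm _ _) :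
      (mappingCone (ι ≫ u)).sc' (i - 1) i (i + 1) ≅ (mappingCone u).sc' (i - 1) i (i + 1))).1 h

variable [HasDerivedCategory.{w} C] {P : ObjectProperty C} [P.IsClosedUnderIsomorphisms]
  [P.ContainsZero]
  (hsum : ∀ X Y : C, P X → P Y → P (X ⨯ Y))
  (hqs : _root_.PCoh.IsQuasiStableUnderKernels P) (hql : _root_.PCoh.IsQuasiLiftable P)

include hsum hqs hql

/-- A stage of the construction. -/
theorem exists_strictAll_quasiIso {G : CochainComplex C ℤ}
    (hG : _root_.PCoh.IsPC P (DerivedCategory.Q.obj G)) (m : ℤ) (hm : ∀ i, m ≤ i → G.ExactAt i) :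
    ∃ (E : CochainComplex C ℤ) (u : E ⟶ G), (∀ i, P (E.X i)) ∧ (∀ i, m ≤ i → IsZero (E.X i)) ∧
      QuasiIso u := by
  let Stage (j : ℕ) := { p : Σ E : CochainComplex C ℤ, E ⟶ G //
    Bdd P p.1 (m - j) m ∧ NIso p.2 (m - j) }
  have h₀ : Nonempty (Stage 0) := by
    obtain ⟨E, w, hE, hw⟩ := exists_bdd_nIso hsum hql G m hm m le_rfl
      fun k hk hk' => absurd hk (by omega)
    exact ⟨⟨⟨E, w⟩, by simpa using hE, by simpa using hw⟩⟩
  have hs : ∀ (j : ℕ) (s : Stage j), ∃ (s' : Stage (j + 1)) (v : s.1.1 ⟶ s'.1.1),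
      v ≫ s'.1.2 = s.1.2 ∧ ∀ i, i ≠ m - (j + 1 : ℕ) → IsIso (v.f i) := by
    rintro j ⟨⟨E, w⟩, hE, hw⟩
    have hw' : NIso w (m - (j + 1 : ℕ) + 1) := hw.mono (by simp only [Nat.cast_add, Nat.cast_one]; omega)
    obtain ⟨X, E', v, u', fac, -, hiso, hX, -, ⟨e⟩, hu'⟩ :=
      exists_modification hql w (m - (j + 1 : ℕ)) hw'
        (isOfFiniteType_cone hsum hqs hql w (hE.isStrictPC _) (hG (m - (j + 1 : ℕ))) _ le_rfl hw')
    refine ⟨⟨⟨E', u'⟩, ⟨fun i => ?_, fun i hi => ?_⟩, hu'⟩, v, fac, hiso⟩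
    · by_cases h : i = m - (j + 1 : ℕ)
      · subst h
        exact P.prop_of_iso e.symm (prop_biprod hsum (hE.1 _) hX)
      · have := hiso i h
        exact P.prop_of_iso (asIso (v.f i)) (hE.1 i)
    · have := hiso i (by omega)
      exact (hE.2 i (by omega)).of_iso (asIso (v.f i)).symm
  choose next v fac hiso using hs
  let s : ∀ j, Stage j := fun j => Nat.rec h₀.some (fun j t => next j t) j
  obtain ⟨L, ι, u, hι, hIso⟩ := exists_seq_colimit (X := fun j => (s j).1.1) (fun j => v j (s j)) m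
    (fun j i hi => hiso j (s j) i hi) (fun j => (s j).1.2) (fun j => fac j (s j))
  refine ⟨L, u, fun i => ?_, fun i hi => ?_, quasiIso_of_forall_nIso fun k i _ => ?_⟩
  · have := hIso (m - i).toNat i (by omega)
    exact P.prop_of_iso (asIso ((ι (m - i).toNat).f i)) ((s _).2.1.1 i)
  · have := hIso 0 i (by omega)
    exact ((s 0).2.1.2 i (Or.inr hi)).of_iso (asIso ((ι 0).f i)).symm
  · refine exactAt_mappingCone_of_isIso (ι (m - i).toNat) u i (fun l hl => hIso _ l (by omega)) ?_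
    rw [hι]
    exact (s _).2.2 i (by omega)

/-- The same, in the derived category. -/
theorem exists_strictAll_iso {X : DerivedCategory C} (hX : _root_.PCoh.IsPC P X) (m : ℤ)
    (hm : ∀ i, m ≤ i → IsZero ((DerivedCategory.homologyFunctor C i).obj X)) :
    ∃ E : CochainComplex C ℤ, (∀ i, P (E.X i)) ∧ (∀ i, m ≤ i → IsZero (E.X i)) ∧
      Nonempty (DerivedCategory.Q.obj E ≅ X) := by
  obtain ⟨G, ⟨e⟩⟩ := exists_rep X
  obtain ⟨E, u, hP, hz, hu⟩ := exists_strictAll_quasiIso hsum hqs hql (G := G)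
    (fun n => PCn.of_iso (hX n) e.symm) m
    fun i hi => (isZero_homology_Q_iff G i).1
      ((hm i hi).of_iso ((DerivedCategory.homologyFunctor C i).mapIso e))
  have := (DerivedCategory.isIso_Q_map_iff_quasiIso C u).2 hu
  exact ⟨E, hP, hz, ⟨asIso (DerivedCategory.Q.map u) ≪≫ e⟩⟩

end Groth.Agent.PCoh

namespace Groth.Agent.PCoh

open CochainComplex HomologicalComplex

variable {C : Type u} [Category.{v} C] [Abelian C] [HasDerivedCategory.{w} C] {P : ObjectProperty C}
  [P.IsClosedUnderIsomorphisms]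

omit [P.IsClosedUnderIsomorphisms] in
theorem isPC_Q_of_strictAll {E : CochainComplex C ℤ} (hE : _root_.PCoh.IsStrictPCAll P E) :
    _root_.PCoh.IsPC P (DerivedCategory.Q.obj E) :=
  fun _ => pcn_Q ⟨hE.1, fun i _ => hE.2 i⟩

omit [P.IsClosedUnderIsomorphisms] in
theorem exactAt_of_quasiIso_of_bounded {E G : CochainComplex C ℤ} (s : G ⟶ E) [QuasiIso s] (b : ℤ)
    (hb : ∀ i, b < i → IsZero (E.X i)) (i : ℤ) (hi : b + 1 ≤ i) : G.ExactAt i := by
  rw [exactAt_iff_isZero_homology]
  exact ((exactAt_iff_isZero_homology _ _).1 (ExactAt.of_isZero (hb i (by omega)))).of_iso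
    (asIso (homologyMap s i))

variable [P.ContainsZero] (hsum : ∀ X Y : C, P X → P Y → P (X ⨯ Y))
  (hqs : _root_.PCoh.IsQuasiStableUnderKernels P) (hql : _root_.PCoh.IsQuasiLiftable P)

include hsum hqs hql

/-- A complex quasi-isomorphic to a bounded above complex of objects of `P` receives a
quasi-isomorphism from one. -/
theorem exists_strictAll_quasiIso_to {E G : CochainComplex C ℤ}
    (hE : _root_.PCoh.IsStrictPCAll P E) (s : G ⟶ E) [QuasiIso s] :
    ∃ (E' : CochainComplex C ℤ) (u : E' ⟶ G), _root_.PCoh.IsStrictPCAll P E' ∧ QuasiIso u := by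
  obtain ⟨b, hb⟩ := hE.1
  have := (DerivedCategory.isIso_Q_map_iff_quasiIso C s).2 inferInstance
  obtain ⟨E', u, hP, hz, hu⟩ := exists_strictAll_quasiIso hsum hqs hql (G := G)
    (fun n => PCn.of_iso (isPC_Q_of_strictAll hE n) (asIso (DerivedCategory.Q.map s)).symm) (b + 1)
    (exactAt_of_quasiIso_of_bounded s b hb)
  exact ⟨E', u, ⟨⟨b + 1, fun i hi => hz i hi.le⟩, hP⟩, hu⟩

end Groth.Agent.PCoh
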