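import Groth.Agent.Lib.PCoh.Cone
import Mathlib.Algebra.Homology.SingleHomology

/-!
Descending construction of strictly pseudo-coherent complexes with a quasi-isomorphism to a given
complex.
-/

set_option autoImplicit false

universe w v u

open CategoryTheory CategoryTheory.Limits CategoryTheory.Pretriangulated

namespace Groth.Agent.PCoh

open CochainComplex HomologicalComplex
open scoped ZeroObject

variable {C : Type u} [Category.{v} C] [Abelian C] {P : ObjectProperty C}

theorem isZero_mappingCone_X {E F : CochainComplex C ℤ} (f : E ⟶ F) (i : ℤ)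
    (h₁ : IsZero (E.X (i + 1))) (h₂ : IsZero (F.X i)) : IsZero ((mappingCone f).X i) :=
  (mappingCone.isZero_X_iff f i).2 ⟨h₁, h₂⟩

/-- Finite type passes to quotients. -/
theorem IsOfFiniteType.of_epi {X Y : C} (f : X ⟶ Y) [Epi f] (h : _root_.PCoh.IsOfFiniteType P X) :
    _root_.PCoh.IsOfFiniteType P Y := by
  obtain ⟨E, π, hE, hπ⟩ := h
  exact ⟨E, π ≫ f, hE, epi_comp π f⟩

theorem IsOfFiniteType.of_iso {X Y : C} (e : X ≅ Y) (h : _root_.PCoh.IsOfFiniteType P X) :
    _root_.PCoh.IsOfFiniteType P Y :=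
  let ⟨E, π, hE, hπ⟩ := h
  ⟨E, π ≫ e.hom, hE, epi_comp π e.hom⟩

theorem isOfFiniteType_of_prop {X : C} (h : P X) : _root_.PCoh.IsOfFiniteType P X :=
  ⟨X, 𝟙 X, h, inferInstance⟩

section FiniteType

variable (G : CochainComplex C ℤ) (k : ℤ)

/-- The objects of the augmented tail of `G` at `k`. -/
noncomputable def tailX : ℕ → C
  | 0 => G.cycles (k + ((0 : ℕ) : ℤ))
  | j + 1 => G.X (k + (j : ℤ))

/-- The differentials of the augmented tail of `G` at `k`. -/
noncomputable def tailD : (j : ℕ) → (tailX G k j ⟶ tailX G k (j + 1))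
  | 0 => G.iCycles (k + ((0 : ℕ) : ℤ))
  | j + 1 => G.d (k + (j : ℤ)) (k + ((j + 1 : ℕ) : ℤ))

/-- `0 → Zᵏ → Gᵏ → Gᵏ⁺¹ → ⋯`. -/
noncomputable def tail : CochainComplex C ℕ :=
  CochainComplex.of (tailX G k) (tailD G k) fun
    | 0 => G.iCycles_d _ _
    | _ + 1 => G.d_comp_d _ _ _

theorem tail_exactAt (h : ∀ i, k < i → G.ExactAt i) : ∀ j, (tail G k).ExactAt j
  | 0 => by
    rw [(tail G k).exactAt_iff' 0 0 1 (by simp) (by simp)]
    refine (ShortComplex.exact_iff_mono _ ((tail G k).shape 0 0 (by simp))).2 ?_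
    change Mono ((tail G k).d 0 1)
    rw [show (tail G k).d 0 1 = tailD G k 0 from CochainComplex.of_d (tailX G k) (tailD G k) 0]
    exact inferInstanceAs (Mono (G.iCycles _))
  | 1 => by
    rw [(tail G k).exactAt_iff' 0 1 2 (by simp) (by simp)]
    refine (ShortComplex.exact_iff_of_iso (ShortComplex.isoMk (S₁ := (tail G k).sc' 0 1 2)
      (S₂ := ShortComplex.mk (G.iCycles (k + ((0 : ℕ) : ℤ))) (G.d (k + ((0 : ℕ) : ℤ)) (k + ((1 : ℕ) : ℤ)))
        (G.iCycles_d _ _)) (Iso.refl _) (Iso.refl _) (Iso.refl _) ?_ ?_)).2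
      (ShortComplex.exact_of_f_is_kernel _
        (G.cyclesIsKernel (k + ((0 : ℕ) : ℤ)) (k + ((1 : ℕ) : ℤ)) (by simp)))
    · exact (Category.id_comp _).trans ((Category.comp_id _).trans (CochainComplex.of_d (tailX G k) (tailD G k) 0)).symm
    · exact (Category.id_comp _).trans ((Category.comp_id _).trans (CochainComplex.of_d (tailX G k) (tailD G k) 1)).symm
  | j + 2 => by
    rw [(tail G k).exactAt_iff' (j + 1) (j + 2) (j + 3) (by simp) (by simp)]
    refine (ShortComplex.exact_iff_of_iso (ShortComplex.isoMk (S₁ := (tail G k).sc' (j + 1) (j + 2) (j + 3))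
      (S₂ := G.sc' (k + ((j : ℕ) : ℤ)) (k + ((j + 1 : ℕ) : ℤ)) (k + ((j + 2 : ℕ) : ℤ)))
      (Iso.refl _) (Iso.refl _) (Iso.refl _) ?_ ?_)).2
      ((G.exactAt_iff' _ _ _ (by simp; omega) (by simp; omega)).1 (h _ (by omega)))
    · exact (Category.id_comp _).trans ((Category.comp_id _).trans (CochainComplex.of_d (tailX G k) (tailD G k) (j + 1))).symm
    · exact (Category.id_comp _).trans ((Category.comp_id _).trans (CochainComplex.of_d (tailX G k) (tailD G k) (j + 2))).symm

/-- The top cohomology of a strictly pseudo-coherent complex is of finite type. -/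
theorem isOfFiniteType_homology_of_strict (hqs : _root_.PCoh.IsQuasiStableUnderKernels P) {n : ℤ}
    (hk : n ≤ k) (hG : _root_.PCoh.IsStrictPC P n G) (h : ∀ i, k < i → G.ExactAt i) :
    _root_.PCoh.IsOfFiniteType P (G.homology k) := by
  obtain ⟨⟨b, hb⟩, hP⟩ := hG
  have h1 : _root_.PCoh.IsOfFiniteType P (G.cycles (k + ((0 : ℕ) : ℤ))) := by
    refine hqs (tail G k) (tail_exactAt G k h) ⟨(b - k).toNat + 1, fun i hi => ?_⟩ fun i hi => ?_
    · obtain ⟨j, rfl⟩ : ∃ j, i = j + 1 := ⟨i - 1, by omega⟩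
      exact hb _ (by omega)
    · obtain ⟨j, rfl⟩ : ∃ j, i = j + 1 := ⟨i - 1, by omega⟩
      exact hP _ (by omega)
  rw [Nat.cast_zero, add_zero] at h1
  exact IsOfFiniteType.of_epi (G.homologyπ k) h1

end FiniteType

variable [P.IsClosedUnderIsomorphisms]

theorem prop_of_isZero [P.ContainsZero] {X : C} (h : IsZero X) : P X :=
  P.prop_of_isZero h

variable (hsum : ∀ X Y : C, P X → P Y → P (X ⨯ Y))

include hsum in
theorem prop_biprod {X Y : C} (hX : P X) (hY : P Y) : P (X ⊞ Y) :=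
  P.prop_of_iso (biprod.isoProd X Y).symm (hsum X Y hX hY)

include hsum in
theorem prop_mappingCone_X {E F : CochainComplex C ℤ} (f : E ⟶ F) (i : ℤ)
    (h₁ : P (E.X (i + 1))) (h₂ : P (F.X i)) : P ((mappingCone f).X i) :=
  P.prop_of_iso (homotopyCofiber.XIsoBiprod f i (i + 1) (by simp)).symm (prop_biprod hsum h₁ h₂)

include hsum in
/-- The cone of a map from a strictly `(n+1)`- to a strictly `n`-pseudo-coherent complex. -/
theorem isStrictPC_mappingCone {n : ℤ} {E F : CochainComplex C ℤ} (f : E ⟶ F)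
    (hE : _root_.PCoh.IsStrictPC P (n + 1) E) (hF : _root_.PCoh.IsStrictPC P n F) :
    _root_.PCoh.IsStrictPC P n (mappingCone f) := by
  obtain ⟨⟨b, hb⟩, hPE⟩ := hE
  obtain ⟨⟨b', hb'⟩, hPF⟩ := hF
  exact ⟨⟨max b b', fun i hi => isZero_mappingCone_X f i (hb _ (by omega)) (hb' _ (by omega))⟩,
    fun i hi => prop_mappingCone_X hsum f i (hPE _ (by omega)) (hPF _ hi)⟩

/-- All terms in `P`, zero outside `[a, m)`. -/
def Bdd (P : ObjectProperty C) (E : CochainComplex C ℤ) (a m : ℤ) : Prop :=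
  (∀ i, P (E.X i)) ∧ ∀ i, i < a ∨ m ≤ i → IsZero (E.X i)

omit [P.IsClosedUnderIsomorphisms] in
theorem Bdd.isStrictPC {E : CochainComplex C ℤ} {a m : ℤ} (h : Bdd P E a m) (n : ℤ) :
    _root_.PCoh.IsStrictPC P n E :=
  ⟨⟨m, fun i hi => h.2 i (Or.inr hi.le)⟩, fun i _ => h.1 i⟩

omit [P.IsClosedUnderIsomorphisms] in
/-- A cycle lifting an epimorphism onto cohomology, by an object of `P`. -/
theorem exists_cycle (hql : _root_.PCoh.IsQuasiLiftable P) (K : CochainComplex C ℤ) (n : ℤ)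
    (h : _root_.PCoh.IsOfFiniteType P (K.homology n)) :
    ∃ (X : C) (q : X ⟶ K.cycles n), P X ∧ Epi (q ≫ K.homologyπ n) := by
  obtain ⟨X, π, hX, hπ⟩ := h
  obtain ⟨X', v, hX', hv⟩ := hql (pullback π (K.homologyπ n)) X (pullback.fst _ _) inferInstance hX
  refine ⟨X', v ≫ pullback.snd _ _, hX', ?_⟩
  rw [Category.assoc, ← pullback.condition, ← Category.assoc]
  exact epi_comp _ _

omit [P.IsClosedUnderIsomorphisms] in
/-- Killing the cohomology of the cone in degree `n` by one object of `P`. -/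
theorem exists_modification (hql : _root_.PCoh.IsQuasiLiftable P) {E F : CochainComplex C ℤ}
    (u : E ⟶ F) (n : ℤ) (h : NIso u (n + 1))
    (hn : _root_.PCoh.IsOfFiniteType P ((mappingCone u).homology n)) :
    ∃ (X : C) (E' : CochainComplex C ℤ) (v : E ⟶ E') (u' : E' ⟶ F), v ≫ u' = u ∧
      (∀ i, Mono (v.f i)) ∧ (∀ i, i ≠ n → IsIso (v.f i)) ∧ P X ∧
      Nonempty (cokernel (v.f n) ≅ X) ∧ Nonempty (E'.X n ≅ E.X n ⊞ X) ∧ NIso u' n := by
  obtain ⟨X, q, hX, hq⟩ := exists_cycle hql (mappingCone u) n hn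
  let S := (HomologicalComplex.single C (ComplexShape.up ℤ) n).obj X
  let ψ : S ⟶ mappingCone u :=
    HomologicalComplex.mkHomFromSingle (q ≫ (mappingCone u).iCycles n) (fun k _ => by simp)
  have hψ : NIso ψ n := by
    refine NIso.of_iff (fun i hi => ?_) ?_
    · exact isIso_of_source_target_iso_zero _
        (((exactAt_iff_isZero_homology _ _).1
          (HomologicalComplex.exactAt_single_obj (ComplexShape.up ℤ) n X i (by omega))).isoZero)
        (((exactAt_iff_isZero_homology _ _).1 (h i (by omega))).isoZero)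
    · have e : (singleObjCyclesSelfIso (ComplexShape.up ℤ) n X).inv ≫ cyclesMap ψ n = q := by
        rw [← cancel_mono ((mappingCone u).iCycles n), Category.assoc, cyclesMap_i]
        simp [ψ]
        erw [singleObjCyclesSelfIso_inv_iCycles_assoc]
        simp
      have e' : ((singleObjCyclesSelfIso (ComplexShape.up ℤ) n X).inv ≫ S.homologyπ n) ≫ homologyMap ψ n =
          q ≫ (mappingCone u).homologyπ n := by
        rw [Category.assoc, homologyπ_naturality, reassoc_of% e]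
      exact epi_of_epi_fac e'
  exact ⟨X, ext ψ, extι ψ, extπ ψ, extι_extπ ψ, mono_extι ψ, fun i hi => isIso_extι ψ i
    (HomologicalComplex.isZero_single_obj_X (ComplexShape.up ℤ) n X i hi), hX,
    ⟨(epi_extι_cokernel ψ n).some ≪≫ singleObjXSelf (ComplexShape.up ℤ) n X⟩,
    ⟨biprod.mapIso (Iso.refl _) (singleObjXSelf (ComplexShape.up ℤ) n X)⟩, (nIso_extπ_iff ψ n).2 hψ⟩

variable [P.ContainsZero]

include hsum in
/-- The descending construction. -/
theorem exists_bdd_nIso (hql : _root_.PCoh.IsQuasiLiftable P) (G : CochainComplex C ℤ) (m : ℤ)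
    (hG : ∀ i, m ≤ i → G.ExactAt i) (k₀ : ℤ) (hk₀ : k₀ ≤ m)
    (H : ∀ k, k₀ ≤ k → k < m → ∀ (E : CochainComplex C ℤ) (w : E ⟶ G), Bdd P E (k + 1) m →
      NIso w (k + 1) → _root_.PCoh.IsOfFiniteType P ((mappingCone w).homology k)) :
    ∃ (E : CochainComplex C ℤ) (w : E ⟶ G), Bdd P E k₀ m ∧ NIso w k₀ := by
  have key : ∀ j : ℕ, k₀ ≤ m - j →
      ∃ (E : CochainComplex C ℤ) (w : E ⟶ G), Bdd P E (m - j) m ∧ NIso w (m - j) := by
    intro j
    induction j with
    | zero =>
      intro _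
      have hz := fun i => (HomologicalComplex.eval C (ComplexShape.up ℤ) i).map_isZero
        (isZero_zero (CochainComplex C ℤ))
      refine ⟨0, 0, ⟨fun i => prop_of_isZero (hz i), fun i _ => hz i⟩, NIso.of_iff (fun i hi => ?_) ?_⟩
      · exact isIso_of_source_target_iso_zero _
          (((HomologicalComplex.homologyFunctor C (ComplexShape.up ℤ) i).map_isZero (isZero_zero _)).isoZero)
          (((exactAt_iff_isZero_homology _ _).1 (hG i (by omega))).isoZero)
      · exact ((exactAt_iff_isZero_homology _ _).1 (hG (m - (0 : ℕ)) (by omega))).epi _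
    | succ j ih =>
      intro hj
      obtain ⟨E, w, hE, hw⟩ := ih (by omega)
      have hw' : NIso w (m - (j + 1 : ℕ) + 1) := hw.mono (by omega)
      obtain ⟨X, E', v, u', -, -, hiso, hX, -, ⟨e⟩, hu'⟩ :=
        exists_modification hql w (m - (j + 1 : ℕ)) hw'
          (H _ hj (by omega) E w ⟨hE.1, fun i hi => hE.2 i (by omega)⟩ hw')
      refine ⟨E', u', ⟨fun i => ?_, fun i hi => ?_⟩, hu'⟩
      · by_cases h : i = m - (j + 1 : ℕ)
        · subst h
          exact P.prop_of_iso e.symm (prop_biprod hsum (hE.1 _) hX)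
        · have := hiso i h
          exact P.prop_of_iso (asIso (v.f i)) (hE.1 i)
      · have := hiso i (by omega)
        exact (hE.2 i (by omega)).of_iso (asIso (v.f i)).symm
  obtain ⟨j, rfl⟩ : ∃ j : ℕ, k₀ = m - j := ⟨(m - k₀).toNat, by omega⟩
  exact key j le_rfl

include hsum in
/-- From a descending construction to a strictly pseudo-coherent resolution. -/
theorem exists_strict_quasiIso_of_bdd {n m : ℤ} (hnm : n ≤ m) {E G : CochainComplex C ℤ}
    {w : E ⟶ G} (hE : Bdd P E n m) (hw : NIso w n) :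
    ∃ (E' : CochainComplex C ℤ) (u : E' ⟶ G), _root_.PCoh.IsStrictPC P n E' ∧ QuasiIso u ∧
      ∀ i, m ≤ i → IsZero (E'.X i) := by
  obtain ⟨E', v, u', -, hu', -, hiso⟩ := exists_factorisation hw
  have hz : ∀ i, m ≤ i → IsZero (E'.X i) := fun i hi =>
    have := hiso i (by omega)
    (hE.2 i (Or.inr hi)).of_iso (asIso (v.f i)).symm
  exact ⟨E', u', ⟨⟨m, fun i hi => hz i hi.le⟩, fun i hi =>
    have := hiso i hi
    P.prop_of_iso (asIso (v.f i)) (hE.1 i)⟩, hu', hz⟩

theorem exists_quasiIso_mappingCone {E F F' : CochainComplex C ℤ} (w : E ⟶ F) (g : F ⟶ F') [QuasiIso g] :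
    ∃ φ : mappingCone w ⟶ mappingCone (w ≫ g), QuasiIso φ := by
  let := HasDerivedCategory.standard C
  let ψ := mappingCone.triangleMap w (w ≫ g) (𝟙 E) g (Category.id_comp _).symm
  let φ : mappingCone w ⟶ mappingCone (w ≫ g) := ψ.hom₃
  refine ⟨φ, (DerivedCategory.isIso_Q_map_iff_quasiIso C φ).1 ?_⟩
  exact isIso₃_of_isIso₁₂ (DerivedCategory.Q.mapTriangle.map ψ)
    (DerivedCategory.mappingCone_triangle_distinguished w)
    (DerivedCategory.mappingCone_triangle_distinguished (w ≫ g))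
    (inferInstanceAs (IsIso (DerivedCategory.Q.map (𝟙 E))))
    (inferInstanceAs (IsIso (DerivedCategory.Q.map g)))

include hsum in
/-- A complex with a quasi-isomorphism to a strictly `n`-pseudo-coherent complex receives one from
such a complex. -/
theorem exists_strict_quasiIso_to (hqs : _root_.PCoh.IsQuasiStableUnderKernels P)
    (hql : _root_.PCoh.IsQuasiLiftable P) {n : ℤ} {G F : CochainComplex C ℤ}
    (hF : _root_.PCoh.IsStrictPC P n F) (u : G ⟶ F) [QuasiIso u] :
    ∃ (E : CochainComplex C ℤ) (v : E ⟶ G), _root_.PCoh.IsStrictPC P n E ∧ QuasiIso v := by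
  obtain ⟨b, hb⟩ := hF.1
  let m := max (b + 1) n
  have hG : ∀ i, m ≤ i → G.ExactAt i := fun i hi => by
    rw [exactAt_iff_isZero_homology]
    exact ((exactAt_iff_isZero_homology _ _).1 (ExactAt.of_isZero (hb i (by omega)))).of_iso
      (asIso (homologyMap u i))
  obtain ⟨E, w, hE, hw⟩ := exists_bdd_nIso hsum hql G m hG n (le_max_right _ _) fun k hk _ E w hE hw => by
    obtain ⟨φ, hφ⟩ := exists_quasiIso_mappingCone w u
    exact IsOfFiniteType.of_epi (inv (homologyMap φ k))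
      (isOfFiniteType_homology_of_strict _ k hqs hk
        (isStrictPC_mappingCone hsum (w ≫ u) (hE.isStrictPC _) hF)
        fun i hi => (hw.comp_quasiIso u) i (by omega))
  obtain ⟨E', v, hE', hv, -⟩ := exists_strict_quasiIso_of_bdd hsum (le_max_right _ _) hE hw
  exact ⟨E', v, hE', hv⟩

section Derived

variable [HasDerivedCategory.{w} C]

/-- `n`-pseudo-coherence in the derived category. -/
abbrev PCn (P : ObjectProperty C) (n : ℤ) (X : DerivedCategory C) : Prop :=
  ∃ E : CochainComplex C ℤ, _root_.PCoh.IsStrictPC P n E ∧ Nonempty (DerivedCategory.Q.obj E ≅ X)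

omit [P.IsClosedUnderIsomorphisms] [P.ContainsZero] in
theorem PCn.of_iso {n : ℤ} {X Y : DerivedCategory C} (h : PCn P n X) (e : X ≅ Y) : PCn P n Y :=
  let ⟨E, hE, ⟨f⟩⟩ := h
  ⟨E, hE, ⟨f ≪≫ e⟩⟩

omit [P.IsClosedUnderIsomorphisms] [P.ContainsZero] in
theorem PCn.mono {n n' : ℤ} {X : DerivedCategory C} (h : PCn P n X) (hn : n ≤ n') : PCn P n' X :=
  let ⟨E, hE, e⟩ := h
  ⟨E, ⟨hE.1, fun i hi => hE.2 i (hn.trans hi)⟩, e⟩

omit [P.IsClosedUnderIsomorphisms] [P.ContainsZero] in
theorem pcn_Q {n : ℤ} {E : CochainComplex C ℤ} (hE : _root_.PCoh.IsStrictPC P n E) :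
    PCn P n (DerivedCategory.Q.obj E) :=
  ⟨E, hE, ⟨Iso.refl _⟩⟩

variable (hqs : _root_.PCoh.IsQuasiStableUnderKernels P) (hql : _root_.PCoh.IsQuasiLiftable P)

include hsum hqs hql

/-- A strictly pseudo-coherent representative mapping by a quasi-isomorphism. -/
theorem exists_strict_quasiIso {n : ℤ} {G : CochainComplex C ℤ} (h : PCn P n (DerivedCategory.Q.obj G)) :
    ∃ (E : CochainComplex C ℤ) (v : E ⟶ G), _root_.PCoh.IsStrictPC P n E ∧ QuasiIso v := by
  obtain ⟨E₀, hE₀, ⟨e⟩⟩ := h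
  obtain ⟨G', s, hs, g, hg⟩ := DerivedCategory.right_fac e.hom
  have hs' : QuasiIso s := (DerivedCategory.isIso_Q_map_iff_quasiIso C s).1 hs
  have hg' : QuasiIso g := by
    rw [← DerivedCategory.isIso_Q_map_iff_quasiIso]
    have : DerivedCategory.Q.map g = DerivedCategory.Q.map s ≫ e.hom := by simp [hg]
    rw [this]
    infer_instance
  obtain ⟨E, v, hE, hv⟩ := exists_strict_quasiIso_to hsum hqs hql hE₀ s
  exact ⟨E, v ≫ g, hE, inferInstance⟩

/-- Two out of three: the cone. -/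
theorem pcn_obj₃ {n : ℤ} (T : Triangle (DerivedCategory C)) (hT : T ∈ distinguishedTriangles)
    (h₁ : PCn P (n + 1) T.obj₁) (h₂ : PCn P n T.obj₂) : PCn P n T.obj₃ := by
  obtain ⟨E₁, hE₁, ⟨e₁⟩⟩ := h₁
  obtain ⟨E₂, hE₂, ⟨e₂⟩⟩ := h₂
  obtain ⟨G', s, hs, g, hg⟩ := DerivedCategory.right_fac (e₁.hom ≫ T.mor₁ ≫ e₂.inv)
  have hs' : QuasiIso s := (DerivedCategory.isIso_Q_map_iff_quasiIso C s).1 hs
  obtain ⟨E, v, hE, hv⟩ := exists_strict_quasiIso_to hsum hqs hql hE₁ s
  have comm : DerivedCategory.Q.map (v ≫ g) ≫ e₂.hom =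
      (DerivedCategory.Q.map (v ≫ s) ≫ e₁.hom) ≫ T.mor₁ := by
    have : DerivedCategory.Q.map g = DerivedCategory.Q.map s ≫ e₁.hom ≫ T.mor₁ ≫ e₂.inv := by
      rw [hg]; simp
    simp [this]
  exact ⟨mappingCone (v ≫ g), isStrictPC_mappingCone hsum _ hE hE₂,
    ⟨Triangle.π₃.mapIso (isoTriangleOfIso₁₂ _ T (DerivedCategory.mappingCone_triangle_distinguished (v ≫ g)) hT
      (@asIso _ _ _ _ (DerivedCategory.Q.map (v ≫ s)) ((DerivedCategory.isIso_Q_map_iff_quasiIso C _).2 (quasiIso_comp v s)) ≪≫ e₁) e₂ comm)⟩⟩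

/-- The finite type condition met in the descending construction. -/
theorem isOfFiniteType_cone {n : ℤ} {E G : CochainComplex C ℤ} (w : E ⟶ G)
    (hE : _root_.PCoh.IsStrictPC P (n + 1) E) (hG : PCn P n (DerivedCategory.Q.obj G))
    (k : ℤ) (hk : n ≤ k) (hw : NIso w (k + 1)) :
    _root_.PCoh.IsOfFiniteType P ((mappingCone w).homology k) := by
  have h₃ : PCn P n (DerivedCategory.Q.obj (mappingCone w)) :=
    pcn_obj₃ hsum hqs hql _ (DerivedCategory.mappingCone_triangle_distinguished w) (pcn_Q hE) hG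
  obtain ⟨F, φ, hF, hφ⟩ := exists_strict_quasiIso hsum hqs hql h₃
  refine IsOfFiniteType.of_epi (homologyMap φ k) (isOfFiniteType_homology_of_strict F k hqs hk hF fun i hi => ?_)
  rw [exactAt_iff_isZero_homology]
  exact ((exactAt_iff_isZero_homology _ _).1 (hw i (by omega))).of_iso (asIso (homologyMap φ i))

/-- An `n`-pseudo-coherent complex without cohomology in degrees `≥ m` is quasi-isomorphic to a
strictly `n`-pseudo-coherent one which is zero in degrees `≥ m`. -/
theorem exists_strict_quasiIso_zero {n m : ℤ} {G : CochainComplex C ℤ}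
    (h : PCn P n (DerivedCategory.Q.obj G)) (hG : ∀ i, m ≤ i → G.ExactAt i) :
    ∃ (E : CochainComplex C ℤ) (v : E ⟶ G), _root_.PCoh.IsStrictPC P n E ∧ QuasiIso v ∧
      ∀ i, m ≤ i → IsZero (E.X i) := by
  obtain ⟨E, w, hE, hw⟩ := exists_bdd_nIso hsum hql G m hG (min n m) (min_le_right _ _)
    fun k hk hk' E w hE hw => isOfFiniteType_cone hsum hqs hql w (hE.isStrictPC _) h k (by omega) hw
  obtain ⟨E', v, hE', hv, hz⟩ := exists_strict_quasiIso_of_bdd hsum (min_le_right n m) hE hw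
  exact ⟨E', v, ⟨hE'.1, fun i hi => hE'.2 i (le_trans (min_le_left _ _) hi)⟩, hv, hz⟩

end Derived

end Groth.Agent.PCoh
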