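import Groth.Agent.Lib.PCoh.Resolution
import Groth.Agent.Lib.DerTrunc.Basic
import Mathlib.Algebra.Homology.DerivedCategory.ShortExact

/-!
Two out of three, approximation by bounded complexes, and retracts for pseudo-coherence in the
derived category.
-/

set_option autoImplicit false

universe w v u

open CategoryTheory CategoryTheory.Limits CategoryTheory.Pretriangulated
open scoped ZeroObject

namespace Groth.Agent.PCoh

open CochainComplex HomologicalComplex DerivedCategory

variable {C : Type u} [Category.{v} C] [Abelian C] [HasDerivedCategory.{w} C] {P : ObjectProperty C}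
  [P.IsClosedUnderIsomorphisms]

local notation "HH" => DerivedCategory.homologyFunctor C

omit [P.IsClosedUnderIsomorphisms] in
theorem isZero_homology_Q_iff (G : CochainComplex C ℤ) (i : ℤ) :
    IsZero ((HH i).obj (Q.obj G)) ↔ G.ExactAt i := by
  rw [exactAt_iff_isZero_homology]
  exact ((homologyFunctorFactors C i).app G).isZero_iff

omit [P.IsClosedUnderIsomorphisms] in
theorem exists_rep (F : DerivedCategory C) : ∃ G : CochainComplex C ℤ, Nonempty (Q.obj G ≅ F) :=
  ⟨Q.objPreimage F, ⟨Q.objObjPreimageIso F⟩⟩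

omit [P.IsClosedUnderIsomorphisms] in
theorem PCn.shift {n : ℤ} {X : DerivedCategory C} (h : PCn P n X) (a n' : ℤ) (hn : a + n' = n) :
    PCn P n' (X⟦a⟧) := by
  obtain ⟨E, ⟨⟨b, hb⟩, hP⟩, ⟨e⟩⟩ := h
  refine ⟨E⟦a⟧, ⟨⟨b - a, fun i hi => hb (i + a) (by omega)⟩, fun i hi => hP (i + a) (by omega)⟩, ?_⟩
  exact ⟨(Q.commShiftIso a).app E ≪≫ (CategoryTheory.shiftFunctor (DerivedCategory C) a).mapIso e⟩

omit [P.IsClosedUnderIsomorphisms] in
theorem PCn.exists_bound {n : ℤ} {X : DerivedCategory C} (h : PCn P n X) :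
    ∃ b : ℤ, ∀ i, b < i → IsZero ((HH i).obj X) := by
  obtain ⟨E, ⟨⟨b, hb⟩, -⟩, ⟨e⟩⟩ := h
  exact ⟨b, fun i hi => ((isZero_homology_Q_iff E i).2 (ExactAt.of_isZero (hb i hi))).of_iso
    ((HH i).mapIso e.symm)⟩

variable [P.ContainsZero]

/-- Objects without cohomology in degrees `≥ n` are `n`-pseudo-coherent. -/
theorem pcn_of_isZero_homology {n : ℤ} {X : DerivedCategory C}
    (h : ∀ i, n ≤ i → IsZero ((HH i).obj X)) : PCn P n X := by
  obtain ⟨G, ⟨e⟩⟩ := exists_rep X
  have : G.IsLE (n - 1) := by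
    rw [CochainComplex.isLE_iff]
    exact fun i hi => (isZero_homology_Q_iff G i).1 ((h i (by omega)).of_iso ((HH i).mapIso e))
  exact ⟨G.truncLE (n - 1), ⟨⟨n - 1, fun i hi => isZero_of_isStrictlyLE (G.truncLE (n - 1)) (n - 1) i hi⟩,
    fun i hi => prop_of_isZero (isZero_of_isStrictlyLE (G.truncLE (n - 1)) (n - 1) i (by omega))⟩,
    ⟨asIso (Q.map (G.ιTruncLE (n - 1))) ≪≫ e⟩⟩

variable (hsum : ∀ X Y : C, P X → P Y → P (X ⨯ Y))
  (hqs : _root_.PCoh.IsQuasiStableUnderKernels P) (hql : _root_.PCoh.IsQuasiLiftable P)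

include hsum hqs hql

theorem pcn_obj₂ {n : ℤ} (T : Triangle (DerivedCategory C)) (hT : T ∈ distinguishedTriangles)
    (h₁ : PCn P n T.obj₁) (h₃ : PCn P n T.obj₃) : PCn P n T.obj₂ :=
  pcn_obj₃ hsum hqs hql T.invRotate (inv_rot_of_distTriang T hT)
    (h₃.shift (-1) (n + 1) (by omega)) h₁

theorem pcn_obj₁ {n : ℤ} (T : Triangle (DerivedCategory C)) (hT : T ∈ distinguishedTriangles)
    (h₂ : PCn P (n + 1) T.obj₂) (h₃ : PCn P n T.obj₃) : PCn P (n + 1) T.obj₁ :=
  pcn_obj₃ hsum hqs hql T.invRotate.invRotate (inv_rot_of_distTriang _ (inv_rot_of_distTriang T hT))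
    (h₂.shift (-1) (n + 1 + 1) (by omega)) (h₃.shift (-1) (n + 1) (by omega))

/-- Approximation of an `n`-pseudo-coherent object by a bounded complex of objects of `P`. -/
theorem exists_approx {n m : ℤ} (hnm : n ≤ m) {X : DerivedCategory C} (h : PCn P n X)
    (hm : ∀ i, m ≤ i → IsZero ((HH i).obj X)) :
    ∃ (E : CochainComplex C ℤ) (α : Q.obj E ⟶ X), Bdd P E n m ∧
      (∀ i, n < i → IsIso ((HH i).map α)) ∧ Epi ((HH n).map α) := by
  obtain ⟨G, ⟨e⟩⟩ := exists_rep X
  have hG : ∀ i, m ≤ i → G.ExactAt i := fun i hi =>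
    (isZero_homology_Q_iff G i).1 ((hm i hi).of_iso ((HH i).mapIso e))
  obtain ⟨E, w, hE, hw⟩ := exists_bdd_nIso hsum hql G m hG n hnm fun k hk _ E w hE hw =>
    isOfFiniteType_cone hsum hqs hql w (hE.isStrictPC _) (h.of_iso e.symm) k hk hw
  refine ⟨E, Q.map w ≫ e.hom, hE, fun i hi => ?_, ?_⟩
  · have := hw.isIso i hi
    have : IsIso ((HH i).map (Q.map w)) := (NatIso.isIso_map_iff (homologyFunctorFactors C i) w).2 this
    rw [Functor.map_comp]
    infer_instance
  · have := hw.epi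
    have e' := homologyFunctorFactors_hom_naturality w n
    have h2' : Epi ((HH n).map (Q.map w) ≫ (homologyFunctorFactors C n).hom.app G) := by
      rw [e']
      exact @epi_comp _ _ _ _ _ _ inferInstance _ this
    have h2 : Epi ((HH n).map (Q.map w)) := by
      have := epi_comp ((HH n).map (Q.map w) ≫ (homologyFunctorFactors C n).hom.app G)
        ((homologyFunctorFactors C n).inv.app G)
      rw [Category.assoc, Iso.hom_inv_id_app] at this
      erw [Category.comp_id] at this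
      exact this
    rw [Functor.map_comp]
    exact epi_comp _ _

omit [P.IsClosedUnderIsomorphisms] [P.ContainsZero] hsum hqs hql in
/-- The third term of a triangle on a map which is bijective on cohomology above `n` and surjective
in degree `n`. -/
theorem isZero_homology_obj₃ {n : ℤ} (T : Triangle (DerivedCategory C))
    (hT : T ∈ distinguishedTriangles) (h₁ : ∀ i, n < i → IsIso ((HH i).map T.mor₁))
    (h₂ : Epi ((HH n).map T.mor₁)) (i : ℤ) (hi : n ≤ i) : IsZero ((HH i).obj T.obj₃) := by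
  have he : Epi ((HH i).map T.mor₁) := by
    rcases hi.lt_or_eq with h | rfl
    · have := h₁ i h
      infer_instance
    · exact h₂
  have hm : Mono ((HH (i + 1)).map T.mor₁) := by
    have := h₁ (i + 1) (by omega)
    infer_instance
  exact (HomologySequence.exact₃ T hT i (i + 1) rfl).isZero_of_both_zeros
    ((HomologySequence.epi_homologyMap_mor₁_iff T hT i).1 he)
    ((HomologySequence.mono_homologyMap_mor₁_iff T hT i (i + 1) rfl).1 hm)

theorem pcn_iff_exists_approx {n : ℤ} {X : DerivedCategory C} :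
    PCn P n X ↔ ∃ (E : CochainComplex C ℤ) (a b : ℤ) (α : Q.obj E ⟶ X),
      (∀ i : ℤ, i < a ∨ b < i → IsZero (E.X i)) ∧ (∀ i : ℤ, P (E.X i)) ∧
        (∀ i : ℤ, n < i → IsIso ((HH i).map α)) ∧ Epi ((HH n).map α) := by
  constructor
  · intro h
    obtain ⟨b, hb⟩ := h.exists_bound
    obtain ⟨E, α, hE, h₁, h₂⟩ := exists_approx hsum hqs hql (n := n) (m := max (b + 1) n)
      (le_max_right _ _) h fun i hi => hb i (by omega)
    exact ⟨E, n, max (b + 1) n, α, fun i hi => hE.2 i (by omega), hE.1, h₁, h₂⟩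
  · rintro ⟨E, a, b, α, hz, hP, h₁, h₂⟩
    obtain ⟨Z, g, h, hT⟩ := distinguished_cocone_triangle α
    exact pcn_obj₂ hsum hqs hql _ hT (pcn_Q ⟨⟨b, fun i hi => hz i (Or.inr hi)⟩, fun i _ => hP i⟩)
      (pcn_of_isZero_homology fun i hi => isZero_homology_obj₃ _ hT h₁ h₂ i hi)

/-- The finite type criterion in the top degree. -/
theorem pcn_iff_isOfFiniteType {n : ℤ} {X : DerivedCategory C}
    (hac : ∀ i, n < i → IsZero ((HH i).obj X)) :
    PCn P n X ↔ _root_.PCoh.IsOfFiniteType P ((HH n).obj X) := by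
  obtain ⟨G, ⟨e⟩⟩ := exists_rep X
  have hG : ∀ i, n + 1 ≤ i → G.ExactAt i := fun i hi =>
    (isZero_homology_Q_iff G i).1 ((hac i (by omega)).of_iso ((HH i).mapIso e))
  let e' : G.homology n ≅ (HH n).obj X := ((homologyFunctorFactors C n).app G).symm ≪≫ (HH n).mapIso e
  constructor
  · intro h
    obtain ⟨E, v, hE, hv, hz⟩ := exists_strict_quasiIso_zero hsum hqs hql (h.of_iso e.symm) hG
    exact IsOfFiniteType.of_epi (homologyMap v n ≫ e'.hom)
      (isOfFiniteType_homology_of_strict E n hqs le_rfl hE fun i hi => ExactAt.of_isZero (hz i (by omega)))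
  · intro h
    have hf := IsOfFiniteType.of_epi e'.inv h
    obtain ⟨E, w, hE, hw⟩ := exists_bdd_nIso hsum hql G (n + 1) hG n (by omega) fun k hk hk' E w hE _ => by
      obtain rfl : k = n := by omega
      refine @IsOfFiniteType.of_epi _ _ _ _ _ _ (homologyMap (mappingCone.inr w) k) ?_ hf
      refine (homologyMap_exact₃_of_distTriang _ (mappingCone_triangle_distinguished w) k (k + 1) rfl).epi_f ?_
      exact IsZero.eq_of_tgt ((exactAt_iff_isZero_homology _ _).1
        (ExactAt.of_isZero (hE.2 (k + 1) (Or.inr le_rfl)))) _ _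
    obtain ⟨E', v, hE', hv, -⟩ := exists_strict_quasiIso_of_bdd hsum (by omega : n ≤ n + 1) hE hw
    exact ⟨E', hE', ⟨asIso (Q.map v) ≪≫ e⟩⟩

/-- Pseudo-coherence passes to retracts. -/
theorem pcn_of_retract {n : ℤ} : ∀ {X Z : DerivedCategory C} (s : X ⟶ Z) (r : Z ⟶ X),
    s ≫ r = 𝟙 X → PCn P n Z → PCn P n X := by
  suffices H : ∀ (j : ℕ) (X Z : DerivedCategory C) (s : X ⟶ Z) (r : Z ⟶ X), s ≫ r = 𝟙 X →
      PCn P n Z → (∀ i, n + j ≤ i → IsZero ((HH i).obj Z)) → PCn P n X by
    intro X Z s r hsr hZ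
    obtain ⟨b, hb⟩ := hZ.exists_bound
    exact H (b + 1 - n).toNat X Z s r hsr hZ fun i hi => hb i (by omega)
  intro j
  induction j with
  | zero =>
    intro X Z s r hsr hZ hz
    refine pcn_of_isZero_homology fun i hi => ?_
    rw [IsZero.iff_id_eq_zero, ← (HH i).map_id, ← hsr, Functor.map_comp,
      (hz i (by omega)).eq_of_tgt ((HH i).map s) 0, zero_comp]
  | succ j ih =>
    intro X Z s r hsr hZ hz
    let k := n + j
    have hzX : ∀ i, k + 1 ≤ i → IsZero ((HH i).obj X) := fun i hi => by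
      rw [IsZero.iff_id_eq_zero, ← (HH i).map_id, ← hsr, Functor.map_comp,
        (hz i (by omega)).eq_of_tgt ((HH i).map s) 0, zero_comp]
    have : Epi ((HH k).map r) := by
      have : IsSplitEpi ((HH k).map r) := ⟨⟨⟨(HH k).map s, by rw [← Functor.map_comp, hsr, CategoryTheory.Functor.map_id]⟩⟩⟩
      infer_instance
    obtain ⟨B, β, hB, h₁, h₂⟩ := exists_approx hsum hqs hql (by omega : k ≤ k + 1) (hZ.mono (by omega))
      (fun i hi => hz i (by omega))
    have hBB : Bdd P (B ⊞ B) k (k + 1) :=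
      ⟨fun i => P.prop_of_iso (HomologicalComplex.biprodXIso B B i).symm (prop_biprod hsum (hB.1 i) (hB.1 i)),
        fun i hi => ((biprod_isZero_iff _ _).2 ⟨hB.2 i hi, hB.2 i hi⟩).of_iso (HomologicalComplex.biprodXIso B B i)⟩
    let α : Q.obj B ⟶ X := β ≫ r
    let γ : Q.obj (B ⊞ B) ⟶ Z :=
      Q.map biprod.fst ≫ β ≫ r ≫ s + Q.map biprod.snd ≫ (β - β ≫ r ≫ s)
    have hl : Q.map (biprod.inl : B ⟶ B ⊞ B) ≫ γ = α ≫ s := by
      simp only [γ, α, Preadditive.comp_add]
      rw [← Functor.map_comp_assoc, ← Functor.map_comp_assoc, biprod.inl_fst, biprod.inl_snd,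
        CategoryTheory.Functor.map_id, Functor.map_zero]
      simp
    have hr : γ ≫ r = Q.map biprod.fst ≫ α := by
      simp only [γ, α, Preadditive.add_comp, Category.assoc, Preadditive.sub_comp, hsr,
        Category.comp_id, sub_self, comp_zero, add_zero]
    have hd : Q.map (biprod.lift (𝟙 B) (𝟙 B)) ≫ γ = β := by
      simp only [γ, Preadditive.comp_add]
      rw [← Functor.map_comp_assoc, ← Functor.map_comp_assoc, biprod.lift_fst, biprod.lift_snd,
        CategoryTheory.Functor.map_id]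
      simp
    obtain ⟨X', g, h, hT⟩ := distinguished_cocone_triangle α
    obtain ⟨Z', g', h', hT'⟩ := distinguished_cocone_triangle γ
    let φ := completeDistinguishedTriangleMorphism _ _ hT hT' (Q.map biprod.inl) s hl.symm
    let ψ := completeDistinguishedTriangleMorphism _ _ hT' hT (Q.map biprod.fst) r hr
    have hθ : IsIso (φ ≫ ψ).hom₃ := isIso₃_of_isIso₁₂ (φ ≫ ψ) hT hT
      (by
        change IsIso (Q.map biprod.inl ≫ Q.map biprod.fst)
        rw [← Functor.map_comp, biprod.inl_fst]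
        infer_instance)
      (by
        change IsIso (s ≫ r)
        rw [hsr]
        infer_instance)
    have hzB : ∀ (K : CochainComplex C ℤ), Bdd P K k (k + 1) → ∀ i, k + 1 ≤ i →
        IsZero ((HH i).obj (Q.obj K)) := fun K hK i hi =>
      (isZero_homology_Q_iff K i).2 (ExactAt.of_isZero (hK.2 i (Or.inr hi)))
    have hzX' : ∀ i, k ≤ i → IsZero ((HH i).obj X') := by
      refine isZero_homology_obj₃ _ hT (fun i hi => ?_) ?_
      · exact isIso_of_source_target_iso_zero _ (hzB B hB i (by omega)).isoZero (hzX i (by omega)).isoZero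
      · change Epi ((HH k).map (β ≫ r))
        rw [Functor.map_comp]
        exact @epi_comp _ _ _ _ _ _ h₂ _ this
    have hzZ' : ∀ i, k ≤ i → IsZero ((HH i).obj Z') := by
      refine isZero_homology_obj₃ _ hT' (fun i hi => ?_) ?_
      · exact isIso_of_source_target_iso_zero _ (hzB _ hBB i (by omega)).isoZero (hz i (by omega)).isoZero
      · exact @epi_of_epi_fac _ _ _ _ _ _ _ _ h₂ (show (HH k).map (Q.map (biprod.lift (𝟙 B) (𝟙 B))) ≫ (HH k).map γ = (HH k).map β by
          rw [← Functor.map_comp, hd])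
    have hZ' : PCn P n Z' := pcn_obj₃ hsum hqs hql _ hT' (pcn_Q (hBB.isStrictPC _)) hZ
    have hX' : PCn P n X' := ih X' Z' φ.hom₃ (ψ.hom₃ ≫ @inv _ _ _ _ (φ ≫ ψ).hom₃ hθ)
      ((Category.assoc _ _ _).symm.trans (@IsIso.hom_inv_id _ _ _ _ (φ ≫ ψ).hom₃ hθ)) hZ' hzZ'
    exact pcn_obj₂ hsum hqs hql _ hT (pcn_Q (hB.isStrictPC _)) hX'

end Groth.Agent.PCoh
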